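import Cfsg.Agent.Lib.Fgs9.CubeSix.Model

/-!
# Centralisers of the elements of `3³ : S₄` with image of order three
-/

namespace Cfsg.Agent.Lib.Fgs9.CubeSix

open Cfsg.Agent.Lib.Fgs9.CubeFour (A)

theorem exists_fix : ∀ w : Fin 24, ordW w = 3 → ∃ z : A, z ≠ 0 ∧ act w z = z := by decide +kernel

theorem cent_nine : ∀ w : Fin 24, ordW w = 3 → ∀ a : A,
    (Finset.univ.filter fun p : A × Fin 24 => mulC (a, w) p = mulC p (a, w)).card = 9 := by
  decide +kernel

end Cfsg.Agent.Lib.Fgs9.CubeSix
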