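import Mathlib.Algebra.BigOperators.Group.Finset.Basic
import Mathlib.Algebra.BigOperators.Group.List.Basic
import Mathlib.Data.Complex.Basic
import Mathlib.Data.List.GetD
import Mathlib.Tactic

/-!
# An exhaustive search for ten vectors with prescribed inner products

A state is the list of nonzero columns found so far, each column normalised up to sign.
-/

namespace Cfsg.Agent.Lib.Fgs9.CubeSix.Search

/-- The inner products. -/
def gramN (j k : ℕ) : ℤ :=
  (([
    [2, -1, 0, 0, 1, 0, 0, 0, -1, -1],
    [-1, 2, 0, 0, -1, 0, 0, 0, 1, 1],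
    [0, 0, 3, 0, 1, 0, 0, 0, -1, -1],
    [0, 0, 0, 2, -1, 1, 0, 0, 0, 0],
    [1, -1, 1, -1, 3, -1, 1, 1, -1, -1],
    [0, 0, 0, 1, -1, 3, 1, 1, 1, 1],
    [0, 0, 0, 0, 1, 1, 4, 1, 1, 1],
    [0, 0, 0, 0, 1, 1, 1, 4, 1, 1],
    [-1, 1, -1, 0, -1, 1, 1, 1, 4, 1],
    [-1, 1, -1, 0, -1, 1, 1, 1, 1, 4]] : List (List ℤ)).getD j []).getD k 0

/-- The coordinates in the trivial column. -/
def trivN (k : ℕ) : ℤ := ([0, 0, 1, 0, 0, 0, -1, 0, -1, 0] : List ℤ).getD k 0

/-- The combinations giving the three values. -/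
def expN (w k : ℕ) : ℤ :=
  (([
    [4, -4, 4, -3, -12, -6, 3, 3, 0, 0],
    [-2, 2, -2, 0, 0, 0, 0, 0, -3, -3],
    [1, -1, 1, 3, 3, -3, -3, -3, 3, 3]] : List (List ℤ)).getD w []).getD k 0

/-- Subtract a multiple of a column. -/
def subCol (q : ℤ) (res c : List ℤ) : List ℤ := List.zipWith (fun r x => r - q * x) res c

/-- A residual is attainable only where some column is nonzero. -/
def okRes (cs : List (List ℤ)) (res : List ℤ) : Bool :=
  (List.range res.length).all fun j => res.getD j 0 == 0 || cs.any fun c => c.getD j 0 != 0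

/-- All extensions of the known columns by the next coordinate. -/
def assign : List (List ℤ) → ℤ → List ℤ → List (List (List ℤ) × ℤ)
  | [], rem, res => if res.all (· == 0) then [([], rem)] else []
  | c :: cs, rem, res =>
    if okRes (c :: cs) res then
      ([-2, -1, 0, 1, 2] : List ℤ).flatMap fun q =>
        if q * q ≤ rem then
          (assign cs (rem - q * q) (subCol q res c)).map fun p => ((c ++ [q]) :: p.1, p.2)
        else []
    else []

/-- The possible new entries of a given norm. -/
def comps (r : ℤ) : List (List ℤ) :=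
  if r = 0 then [[]] else if r = 1 then [[1]] else if r = 2 then [[1, 1]]
  else if r = 3 then [[1, 1, 1]] else if r = 4 then [[1, 1, 1, 1], [2]] else []

/-- The residual vector at stage `k`. -/
def need (k : ℕ) : List ℤ := (List.range k).map fun j => gramN j k - trivN j * trivN k

/-- One stage. -/
def step (k : ℕ) (sts : List (List (List ℤ))) : List (List (List ℤ)) :=
  sts.flatMap fun st => (assign st (gramN k k - trivN k * trivN k) (need k)).flatMap fun p =>
    (comps p.2).map fun e => p.1 ++ e.map fun q => List.replicate k 0 ++ [q]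

/-- The states after `k` stages. -/
def states : ℕ → List (List (List ℤ))
  | 0 => [[]]
  | k + 1 => step k (states k)

/-- The value at the element of weight `w + 1`. -/
def val (w : ℕ) (f : ℕ → ℤ) : ℤ := ((List.range 10).map fun k => expN w k * f k).sum

/-- The combination entering the class sum. -/
def kap (f : ℕ → ℤ) : ℤ := (val 0 f - 2 * val 1 f + val 2 f) * val 2 f * val 0 f

/-- The property of the final states. -/
def good : List (List ℤ) → Bool
  | c0 :: c1 :: c2 :: rest =>
    decide (c0.getD 0 0 = 1 ∧ c1.getD 0 0 = 1 ∧ c2.getD 0 0 = 0 ∧ c2.getD 1 0 = 1 ∧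
      (c1.getD 1 0 - c0.getD 1 0 = 1 ∨ c1.getD 1 0 - c0.getD 1 0 = -1) ∧
      (kap (c0.getD · 0) - kap (c1.getD · 0) +
          (c1.getD 1 0 - c0.getD 1 0) * kap (c2.getD · 0) = 108 ∨
        kap (c0.getD · 0) - kap (c1.getD · 0) +
          (c1.getD 1 0 - c0.getD 1 0) * kap (c2.getD · 0) = -108)) &&
    rest.all fun c => decide (c.getD 0 0 = 0 ∧ c.getD 1 0 = 0 ∧ kap (c.getD · 0) = 0)
  | _ => false

set_option maxRecDepth 100000 in
theorem all_good : (states 10).all good = true := by decide +kernel

theorem need_zero (k : ℕ) : (need k).length = k := by simp [need]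

theorem diag_le : ∀ k < 10, gramN k k - trivN k * trivN k ≤ 4 := by decide +kernel

theorem gram_symm : ∀ j < 10, ∀ k < 10, gramN j k = gramN k j := by decide +kernel

theorem triv_first : trivN 0 = 0 ∧ trivN 1 = 0 := by decide +kernel

theorem assign_mem : ∀ (P : List (List ℤ × ℤ)) (rem : ℤ) (res : List ℤ), rem ≤ 4 →
    (P.map fun p => p.2 * p.2).sum ≤ rem → (∀ p ∈ P, p.1.length = res.length) →
    (∀ j < res.length, res.getD j 0 = (P.map fun p => p.2 * p.1.getD j 0).sum) →
    (P.map (fun p => p.1 ++ [p.2]), rem - (P.map fun p => p.2 * p.2).sum) ∈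
      assign (P.map Prod.fst) rem res := by
  intro P
  induction P with
  | nil =>
    intro rem res _ _ _ h
    simp only [List.map_nil, List.sum_nil, sub_zero, assign]
    rw [if_pos]
    · simp
    · rw [List.all_eq_true]
      intro x hx
      obtain ⟨j, hj, rfl⟩ := List.getElem_of_mem hx
      have := h j hj
      rw [List.getD_eq_getElem _ _ hj] at this
      simpa using this
  | cons p P ih =>
    intro rem res hrem hsq hlen h
    have hnn : 0 ≤ (P.map fun p => p.2 * p.2).sum :=
      List.sum_nonneg (by simp only [List.mem_map]; rintro _ ⟨a, -, rfl⟩; exact mul_self_nonneg _)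
    simp only [List.map_cons, List.sum_cons] at hsq ⊢
    rw [assign, if_pos]
    · rw [List.mem_flatMap]
      refine ⟨p.2, ?_, ?_⟩
      · have h1 : p.2 * p.2 ≤ 4 := by omega
        have h2 : p.2 ≤ 2 := by nlinarith
        have h3 : -2 ≤ p.2 := by nlinarith
        simp only [List.mem_cons, List.not_mem_nil, or_false]
        omega
      · rw [if_pos (by omega), List.mem_map]
        refine ⟨_, ih (rem - p.2 * p.2) (subCol p.2 res p.1) ?_ (by omega) ?_ ?_, ?_⟩
        · nlinarith [mul_self_nonneg p.2]
        · intro q hq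
          simp [subCol, hlen p List.mem_cons_self, hlen q (List.mem_cons_of_mem _ hq)]
        · intro j hj
          have hpl := hlen p List.mem_cons_self
          have hj' : j < res.length := by simpa [subCol, hpl] using hj
          have hh := h j hj'
          simp only [List.map_cons, List.sum_cons] at hh
          rw [List.getD_eq_getElem _ _ hj]
          simp only [subCol, List.getElem_zipWith]
          rw [List.getD_eq_getElem _ _ hj', List.getD_eq_getElem _ _ (hpl ▸ hj')] at hh
          omega
        · rw [sub_sub]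
    · rw [okRes, List.all_eq_true]
      intro j hj
      simp only [Bool.or_eq_true, List.any_eq_true, beq_iff_eq, bne_iff_ne, ne_eq]
      by_contra hc
      rw [not_or] at hc
      obtain ⟨hc1, hc2⟩ := hc
      apply hc1
      rw [h j (List.mem_range.1 hj)]
      refine List.sum_eq_zero fun x hx => ?_
      obtain ⟨q, hq, rfl⟩ := List.mem_map.1 hx
      push Not at hc2
      rw [hc2 q.1 (List.mem_map.2 ⟨q, hq, rfl⟩), mul_zero]

theorem comps_mem (l : List ℤ) (hl : ∀ q ∈ l, 0 < q) (h : (l.map fun q => q * q).sum ≤ 4) :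
    l ∈ comps (l.map fun q => q * q).sum := by
  have hb : ∀ q ∈ l, q = 1 ∨ q = 2 := by
    intro q hq
    have h0 : ∀ x ∈ l.map (fun a : ℤ => a * a), 0 ≤ x := by
      intro x hx
      obtain ⟨a, -, rfl⟩ := List.mem_map.1 hx
      exact mul_self_nonneg a
    have h1 : q * q ≤ 4 := le_trans (List.single_le_sum h0 _
      (List.mem_map_of_mem (f := fun a : ℤ => a * a) hq)) h
    have h2 := hl q hq
    have : q ≤ 2 := by nlinarith
    omega
  have hpos : ∀ m : List ℤ, 0 ≤ (m.map fun q => q * q).sum := fun m =>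
    List.sum_nonneg (by simp only [List.mem_map]; rintro _ ⟨a, -, rfl⟩; exact mul_self_nonneg _)
  rcases l with _ | ⟨a, _ | ⟨b, _ | ⟨c, _ | ⟨d, _ | ⟨e, m⟩⟩⟩⟩⟩
  · decide
  all_goals simp only [List.mem_cons, List.not_mem_nil, or_false, forall_eq_or_imp, forall_eq] at hb
  · rcases hb with rfl | rfl <;> decide
  · obtain ⟨rfl | rfl, rfl | rfl⟩ := hb <;> first | decide | simp at h
  · obtain ⟨rfl | rfl, rfl | rfl, rfl | rfl⟩ := hb <;> first | decide | simp at h
  · obtain ⟨rfl | rfl, rfl | rfl, rfl | rfl, rfl | rfl⟩ := hb <;> first | decide | simp at h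
  · exfalso
    have := hpos m
    obtain ⟨rfl | rfl, rfl | rfl, rfl | rfl, rfl | rfl, rfl | rfl, -⟩ := hb <;>
      simp at h <;> omega

universe u
variable {ι : Type u} [Fintype ι] [DecidableEq ι]

/-- A state describes a family of vectors on the first `k` coordinates. -/
def Matches (V : ι → ℕ → ℤ) (k : ℕ) (st : List (List ℤ)) : Prop :=
  ∃ L : List (ι × ℤ), (L.map Prod.fst).Nodup ∧ (∀ p ∈ L, p.2 = 1 ∨ p.2 = -1) ∧
    st = L.map (fun p => (List.range k).map fun j => p.2 * V p.1 j) ∧
    ∀ i, i ∉ L.map Prod.fst → ∀ j < k, V i j = 0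

theorem getD_range_map (f : ℕ → ℤ) {j k : ℕ} (h : j < k) :
    ((List.range k).map f).getD j 0 = f j := by
  rw [List.getD_eq_getElem _ _ (by simpa using h)]
  simp

theorem sum_split (L : List ι) (hL : L.Nodup) (f : ι → ℤ) :
    ∑ i, f i = (L.map f).sum + ∑ i ∈ Finset.univ.filter (fun i => i ∉ L), f i := by
  rw [← List.sum_toFinset f hL, ← Finset.sum_filter_add_sum_filter_not Finset.univ (fun i => i ∈ L)]
  congr 1
  exact Finset.sum_congr (by ext; simp) fun _ _ => rfl

theorem exists_state (V : ι → ℕ → ℤ)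
    (hgram : ∀ j < 10, ∀ k < 10, ∑ i, V i j * V i k = gramN j k - trivN j * trivN k) :
    ∀ k ≤ 10, ∃ st ∈ states k, Matches V k st := by
  intro k
  induction k with
  | zero =>
    intro _
    exact ⟨[], by simp [states], [], by simp, by simp, rfl, fun i _ j hj => absurd hj (by omega)⟩
  | succ k ih =>
    intro hk
    obtain ⟨st, hst, L, hnd, hsgn, rfl, hout⟩ := ih (by omega)
    let P : List (List ℤ × ℤ) :=
      L.map fun p => ((List.range k).map fun j => p.2 * V p.1 j, p.2 * V p.1 k)
    let N := Finset.univ.filter fun i => i ∉ L.map Prod.fst ∧ V i k ≠ 0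
    let L2 : List (ι × ℤ) := N.toList.map fun i => (i, if 0 < V i k then 1 else -1)
    have hsq : ∀ p ∈ L, (p.2 * V p.1 k) * (p.2 * V p.1 k) = V p.1 k * V p.1 k := by
      intro p hp
      rcases hsgn p hp with e | e <;> rw [e] <;> ring
    have hrest : ∑ i ∈ Finset.univ.filter (fun i => i ∉ L.map Prod.fst), V i k * V i k =
        (((L2.map fun p => p.2 * V p.1 k)).map fun q => q * q).sum := by
      rw [List.map_map, List.map_map]
      have h1 : ∀ i, (((fun q : ℤ => q * q) ∘ fun p : ι × ℤ => p.2 * V p.1 k) ∘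
          fun i => (i, if 0 < V i k then (1 : ℤ) else -1)) i = V i k * V i k := by
        intro i
        simp only [Function.comp_apply]
        split_ifs <;> ring
      rw [funext h1, Finset.sum_map_toList]
      refine (Finset.sum_subset (fun i hi => ?_) fun i hi hi' => ?_).symm
      · simp only [N, Finset.mem_filter] at hi ⊢
        exact ⟨hi.1, hi.2.1⟩
      · simp only [N, Finset.mem_filter, Finset.mem_univ, true_and, not_and, not_not] at hi hi'
        rw [hi' hi, mul_zero]
    have hnorm : (P.map fun p => p.2 * p.2).sum +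
        ((L2.map fun p => p.2 * V p.1 k).map fun q => q * q).sum =
        gramN k k - trivN k * trivN k := by
      rw [← hrest, ← hgram k (by omega) k (by omega), sum_split _ hnd]
      congr 1
      simp only [P, List.map_map]
      exact congrArg List.sum (List.map_congr_left hsq)
    have hres : ∀ j < k, gramN j k - trivN j * trivN k =
        (P.map fun p => p.2 * p.1.getD j 0).sum := by
      intro j hj
      rw [← hgram j (by omega) k (by omega), sum_split _ hnd,
        Finset.sum_eq_zero (fun i hi => by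
          rw [hout i (Finset.mem_filter.1 hi).2 j hj, zero_mul]), add_zero]
      simp only [P, List.map_map]
      refine congrArg List.sum (List.map_congr_left fun p hp => ?_)
      simp only [Function.comp_apply]
      rw [getD_range_map _ hj]
      rcases hsgn p hp with e | e <;> rw [e] <;> ring
    have hnn : ∀ m : List ℤ, 0 ≤ (m.map fun q => q * q).sum := fun m =>
      List.sum_nonneg (by simp only [List.mem_map]; rintro _ ⟨a, -, rfl⟩; exact mul_self_nonneg _)
    have hnnP : 0 ≤ (P.map fun p => p.2 * p.2).sum :=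
      List.sum_nonneg (by simp only [List.mem_map]; rintro _ ⟨a, -, rfl⟩; exact mul_self_nonneg _)
    have hd := diag_le k (by omega)
    have hassign := assign_mem P (gramN k k - trivN k * trivN k) (need k) hd
      (by have := hnn (L2.map fun p => p.2 * V p.1 k); omega)
      (fun p hp => by
        obtain ⟨q, -, rfl⟩ := List.mem_map.1 hp
        simp [need])
      (fun j hj => by
        rw [need_zero] at hj
        rw [need, getD_range_map _ hj]
        exact hres j hj)
    have hPfst : P.map Prod.fst = L.map (fun p => (List.range k).map fun j => p.2 * V p.1 j) := by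
      simp [P, Function.comp_def]
    rw [hPfst] at hassign
    have hcomp : (L2.map fun p => p.2 * V p.1 k) ∈
        comps (gramN k k - trivN k * trivN k - (P.map fun p => p.2 * p.2).sum) := by
      rw [show gramN k k - trivN k * trivN k - (P.map fun p => p.2 * p.2).sum =
        ((L2.map fun p => p.2 * V p.1 k).map fun q => q * q).sum by omega]
      refine comps_mem _ ?_ (by omega)
      intro q hq
      obtain ⟨p, hp, rfl⟩ := List.mem_map.1 hq
      obtain ⟨i, hi, rfl⟩ := List.mem_map.1 hp
      have := (Finset.mem_filter.1 (Finset.mem_toList.1 hi)).2.2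
      dsimp only
      split_ifs <;> omega
    refine ⟨(L ++ L2).map (fun p => (List.range (k + 1)).map fun j => p.2 * V p.1 j), ?_, L ++ L2,
      ?_, ?_, rfl, ?_⟩
    · rw [states, step, List.mem_flatMap]
      refine ⟨_, hst, ?_⟩
      rw [List.mem_flatMap]
      refine ⟨_, hassign, ?_⟩
      rw [List.mem_map]
      refine ⟨_, hcomp, ?_⟩
      rw [List.map_append]
      congr 1
      · simp only [P, List.map_map]
        refine List.map_congr_left fun p _ => ?_
        simp [List.range_succ]
      · rw [List.map_map]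
        refine List.map_congr_left fun p hp => ?_
        simp only [Function.comp_apply, List.range_succ, List.map_append, List.map_cons,
          List.map_nil]
        congr 1
        obtain ⟨i, hi, rfl⟩ := List.mem_map.1 hp
        have hi' := (Finset.mem_filter.1 (Finset.mem_toList.1 hi)).2.1
        symm
        rw [List.eq_replicate_iff]
        refine ⟨by simp, ?_⟩
        intro b hb
        obtain ⟨j, hj, rfl⟩ := List.mem_map.1 hb
        rw [hout i hi' j (List.mem_range.1 hj), mul_zero]
    · have h2 : L2.map Prod.fst = N.toList := by simp [L2, Function.comp_def]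
      rw [List.map_append, h2, List.nodup_append]
      refine ⟨hnd, Finset.nodup_toList _, ?_⟩
      intro a ha b hb hab
      subst hab
      exact (Finset.mem_filter.1 (Finset.mem_toList.1 hb)).2.1 ha
    · intro p hp
      rcases List.mem_append.1 hp with hp | hp
      · exact hsgn p hp
      · obtain ⟨i, -, rfl⟩ := List.mem_map.1 hp
        dsimp only
        split_ifs <;> simp
    · intro i hi j hj
      have h2 : L2.map Prod.fst = N.toList := by simp [L2, Function.comp_def]
      rw [List.map_append, h2, List.mem_append, not_or] at hi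
      rcases Nat.lt_succ_iff_lt_or_eq.1 hj with hj | rfl
      · exact hout i hi.1 j hj
      · by_contra h
        exact hi.2 (Finset.mem_toList.2 (Finset.mem_filter.2 ⟨Finset.mem_univ _, hi.1, h⟩))

theorem val_congr (w : ℕ) (f g : ℕ → ℤ) (h : ∀ j < 10, f j = g j) : val w f = val w g := by
  unfold val
  exact congrArg List.sum (List.map_congr_left fun j hj => by rw [h j (List.mem_range.1 hj)])

theorem kap_congr (f g : ℕ → ℤ) (h : ∀ j < 10, f j = g j) : kap f = kap g := by
  unfold kap
  rw [val_congr 0 f g h, val_congr 1 f g h, val_congr 2 f g h]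

theorem val_smul (w : ℕ) (s : ℤ) (f : ℕ → ℤ) : val w (fun j => s * f j) = s * val w f := by
  unfold val
  rw [← List.sum_map_mul_left]
  exact congrArg List.sum (List.map_congr_left fun j _ => by ring)

theorem kap_smul (s : ℤ) (f : ℕ → ℤ) : kap (fun j => s * f j) = s ^ 3 * kap f := by
  unfold kap
  simp only [val_smul]
  ring

theorem kap_zero : kap (fun _ => 0) = 0 := by decide +kernel

/-- The outcome of the search. -/
theorem exceptional (V : ι → ℕ → ℤ) (d : ι → ℕ) (hd : ∀ i, 0 < d i)
    (hgram : ∀ j < 10, ∀ k < 10, ∑ i, V i j * V i k = gramN j k - trivN j * trivN k)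
    (hdeg : ∀ k < 2, ∑ i, (d i : ℤ) * V i k = -trivN k) :
    ∃ (D : ℕ) (ε : ℤ), 0 < D ∧ (ε = 1 ∨ ε = -1) ∧
      ∑ i, (kap (V i) : ℂ) / (d i : ℂ) = (ε : ℂ) * 108 / (D : ℂ) ∧
      3 * (D * D) ≤ ∑ i, d i * d i := by
  classical
  obtain ⟨st, hst, L, hnd, hsgn, rfl, hout⟩ := exists_state V hgram 10 le_rfl
  have hgood := List.all_eq_true.1 all_good _ hst
  rcases L with _ | ⟨p0, _ | ⟨p1, _ | ⟨p2, L⟩⟩⟩
  · simp [good] at hgood
  · simp [good] at hgood
  · simp [good] at hgood
  simp only [List.map_cons, good, Bool.and_eq_true, decide_eq_true_eq, List.all_eq_true,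
    List.mem_map, forall_exists_index, and_imp, forall_apply_eq_imp_iff₂] at hgood
  obtain ⟨⟨h00, h10, h20, h21, hσ, hK⟩, hrest⟩ := hgood
  have hget : ∀ (p : ι × ℤ) (j : ℕ), j < 10 →
      (((List.range 10).map fun j => p.2 * V p.1 j).getD j 0) = p.2 * V p.1 j :=
    fun p j hj => getD_range_map _ hj
  have hkap : ∀ p : ι × ℤ,
      kap (fun j => ((List.range 10).map fun j => p.2 * V p.1 j).getD j 0) =
        p.2 ^ 3 * kap (V p.1) := by
    intro p
    rw [kap_congr _ _ (hget p), kap_smul]
  simp only [hget _ 0 (by norm_num), hget _ 1 (by norm_num)] at h00 h10 h20 h21 hσ hK hrest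
  simp only [hkap] at hK hrest
  have s0 := hsgn p0 (by simp)
  have s1 := hsgn p1 (by simp)
  have s2 := hsgn p2 (by simp)
  obtain ⟨i0, e0⟩ := p0
  obtain ⟨i1, e1⟩ := p1
  obtain ⟨i2, e2⟩ := p2
  simp only at h00 h10 h20 h21 hσ hK s0 s1 s2
  simp only [List.map_cons, List.nodup_cons, List.mem_cons, not_or] at hnd
  obtain ⟨⟨h01, h02, h0L⟩, ⟨h12, h1L⟩, h2L, -⟩ := hnd
  have hsq : ∀ e : ℤ, e = 1 ∨ e = -1 → e * e = 1 := by
    rintro e (rfl | rfl) <;> rfl
  have hz : ∀ i, i ∉ ({i0, i1, i2} : Finset ι) →
      V i 0 = 0 ∧ V i 1 = 0 ∧ kap (V i) = 0 := by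
    intro i hi
    simp only [Finset.mem_insert, Finset.mem_singleton, not_or] at hi
    by_cases hiL : i ∈ L.map Prod.fst
    · obtain ⟨p, hp, rfl⟩ := List.mem_map.1 hiL
      obtain ⟨a, b, c⟩ := hrest p hp
      have hp2 : p.2 ≠ 0 := by
        rcases hsgn p (by simp [hp]) with e | e <;> rw [e] <;> norm_num
      exact ⟨(mul_eq_zero.1 a).resolve_left hp2, (mul_eq_zero.1 b).resolve_left hp2,
        (mul_eq_zero.1 c).resolve_left (pow_ne_zero _ hp2)⟩
    · have h := hout i (by simp [hi.1, hi.2.1, hi.2.2, hiL])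
      refine ⟨h 0 (by norm_num), h 1 (by norm_num), ?_⟩
      rw [kap_congr _ (fun _ => 0) h, kap_zero]
  have hsum : ∀ {M : Type} [AddCommMonoid M] (f : ι → M),
      (∀ i, i ∉ ({i0, i1, i2} : Finset ι) → f i = 0) → ∑ i, f i = f i0 + f i1 + f i2 := by
    intro M _ f hf
    rw [← Finset.sum_subset (Finset.subset_univ {i0, i1, i2}) (fun i _ hi => hf i hi),
      Finset.sum_insert (by simp [h01, h02]), Finset.sum_insert (by simp [h12]),
      Finset.sum_singleton, add_assoc]
  have hv20 : V i2 0 = 0 := by rcases s2 with e | e <;> rw [e] at h20 <;> omega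
  have hv21 : V i2 1 = e2 := by rcases s2 with e | e <;> rw [e] at h21 ⊢ <;> omega
  have hv00 : V i0 0 = e0 := by rcases s0 with e | e <;> rw [e] at h00 ⊢ <;> omega
  have hv10 : V i1 0 = e1 := by rcases s1 with e | e <;> rw [e] at h10 ⊢ <;> omega
  have hd0 : (d i0 : ℤ) * e0 + (d i1 : ℤ) * e1 = 0 := by
    have := hdeg 0 (by norm_num)
    rw [triv_first.1, hsum _ (fun i hi => by rw [(hz i hi).1, mul_zero]), hv00, hv10, hv20] at this
    linarith
  have hd1 : (d i0 : ℤ) * V i0 1 + (d i1 : ℤ) * V i1 1 + (d i2 : ℤ) * e2 = 0 := by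
    have := hdeg 1 (by norm_num)
    rw [triv_first.2, hsum _ (fun i hi => by rw [(hz i hi).2.1, mul_zero]), hv21] at this
    linarith
  have hp0 := hd i0
  have hp1 := hd i1
  have hp2 := hd i2
  have hd01 : d i1 = d i0 ∧ e1 = -e0 := by
    rcases s0 with e | e <;> rcases s1 with e' | e' <;> rw [e, e'] at hd0 <;>
      refine ⟨?_, ?_⟩ <;> omega
  obtain ⟨hd01, he1⟩ := hd01
  obtain ⟨σ, hσdef⟩ : ∃ σ, σ = e1 * V i1 1 - e0 * V i0 1 := ⟨_, rfl⟩
  rw [← hσdef] at hσ hK
  have hd2 : (d i2 : ℤ) * e2 = e0 * σ * (d i0 : ℤ) := by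
    rw [hσdef, he1]
    have := hsq e0 s0
    rw [hd01] at hd1
    linear_combination hd1 + ((d i0 : ℤ) * (V i0 1 + V i1 1)) * this
  have hd02 : d i2 = d i0 ∧ e2 = e0 * σ := by
    rcases s0 with e | e <;> rcases s2 with e' | e' <;> rcases hσ with e'' | e'' <;>
      rw [e, e', e''] at hd2 <;> refine ⟨?_, ?_⟩ <;> (try rw [e, e', e'']) <;> omega
  obtain ⟨hd02, he2⟩ := hd02
  have hσ2 : σ * σ = 1 := hsq σ hσ
  have hε : ∃ ε : ℤ, (ε = 1 ∨ ε = -1) ∧
      kap (V i0) + kap (V i1) + kap (V i2) = ε * 108 := by
    have e03 : e0 ^ 3 = e0 := by rcases s0 with rfl | rfl <;> norm_num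
    have e13 : e1 ^ 3 = -e0 := by rw [he1]; linear_combination -e03
    have e23 : e2 ^ 3 = e0 * σ := by
      rw [he2, mul_pow, e03, show σ ^ 3 = σ * σ * σ by ring, hσ2, one_mul]
    rw [e03, e13, e23] at hK
    have key : kap (V i0) + kap (V i1) + kap (V i2) =
        e0 * (e0 * kap (V i0) - -e0 * kap (V i1) + σ * (e0 * σ * kap (V i2))) := by
      linear_combination (-(kap (V i0) + kap (V i1) + kap (V i2) * σ * σ)) * hsq e0 s0 -
        kap (V i2) * hσ2
    rcases hK with h | h <;> rw [h] at key
    · exact ⟨e0, s0, key⟩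
    · exact ⟨-e0, by omega, by rw [key]; ring⟩
  obtain ⟨ε, hε1, hε2⟩ := hε
  refine ⟨d i0, ε, hp0, hε1, ?_, ?_⟩
  · rw [hsum _ (fun i hi => by rw [(hz i hi).2.2]; simp), hd01, hd02, ← add_div, ← add_div]
    congr 1
    exact_mod_cast hε2
  · calc 3 * (d i0 * d i0) = ∑ i ∈ ({i0, i1, i2} : Finset ι), d i * d i := by
          rw [Finset.sum_insert (by simp [h01, h02]), Finset.sum_insert (by simp [h12]),
            Finset.sum_singleton, hd01, hd02]
          ring
      _ ≤ _ := Finset.sum_le_univ_sum_of_nonneg fun i => Nat.zero_le _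

end Cfsg.Agent.Lib.Fgs9.CubeSix.Search
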