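import Cfsg.Agent.Lib.Fgs9.CubeSix.Model
import Cfsg.Agent.Lib.Fgs9.CubeSix.Search
import Mathlib.Analysis.Real.Sqrt
import Mathlib.Data.Fin.VecNotation

/-!
# Ten monomial virtual characters of `3³ : S₄` in coordinates
-/

namespace Cfsg.Agent.Lib.Fgs9.CubeSix

open Cfsg.Agent.Lib.Fgs9.CubeFour (A dot)
open scoped ComplexConjugate

/-- Integers of the field of twelfth roots of unity, in the basis `1, ζ, ζ², ζ³`. -/
abbrev E4 : Type := ℤ × ℤ × ℤ × ℤ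

/-- The primitive twelfth root of unity. -/
noncomputable def zeta : ℂ := ((Real.sqrt 3 : ℂ) + Complex.I) / 2

/-- The embedding in the complex numbers. -/
noncomputable def toC4 (p : E4) : ℂ :=
  (p.1 : ℂ) + (p.2.1 : ℂ) * zeta + (p.2.2.1 : ℂ) * zeta ^ 2 + (p.2.2.2 : ℂ) * zeta ^ 3

/-- Multiplication. -/
def mul4 (p q : E4) : E4 :=
  (p.1 * q.1 - (p.2.1 * q.2.2.2 + p.2.2.1 * q.2.2.1 + p.2.2.2 * q.2.1) - p.2.2.2 * q.2.2.2,
    p.1 * q.2.1 + p.2.1 * q.1 - (p.2.2.1 * q.2.2.2 + p.2.2.2 * q.2.2.1),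
    p.1 * q.2.2.1 + p.2.1 * q.2.1 + p.2.2.1 * q.1 +
      (p.2.1 * q.2.2.2 + p.2.2.1 * q.2.2.1 + p.2.2.2 * q.2.1),
    p.1 * q.2.2.2 + p.2.1 * q.2.2.1 + p.2.2.1 * q.2.1 + p.2.2.2 * q.1 +
      (p.2.2.1 * q.2.2.2 + p.2.2.2 * q.2.2.1))

/-- Complex conjugation. -/
def conj4 (p : E4) : E4 := (p.1 + p.2.2.1, p.2.1, -p.2.2.1, -p.2.1 - p.2.2.2)

/-- Integer multiples. -/
def smul4 (n : ℤ) (p : E4) : E4 := (n * p.1, n * p.2.1, n * p.2.2.1, n * p.2.2.2)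

/-- The powers of `ζ`. -/
def zp (k : ZMod 12) : E4 :=
  (![(1, 0, 0, 0), (0, 1, 0, 0), (0, 0, 1, 0), (0, 0, 0, 1), (-1, 0, 1, 0), (0, -1, 0, 1),
    (-1, 0, 0, 0), (0, -1, 0, 0), (0, 0, -1, 0), (0, 0, 0, -1), (1, 0, -1, 0), (0, 1, 0, -1)]
    : Fin 12 → E4) k

/-- The character of `F₃` inside the twelfth roots of unity. -/
def four (k : ZMod 3) : ZMod 12 := 4 * (k.val : ZMod 12)

/-- The parameter of each monomial character. -/
def lamTbl : Fin 14 → A :=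
  ![(0, 0, 0), (0, 0, 0), (0, 0, 0), (0, 0, 0), (0, 0, 0), (1, 0, 0), (1, 0, 0), (1, 0, 0), (1, 0, 0), (1, 1, 0), (1, 1, 0), (1, 1, 1), (1, 1, 1), (1, 1, 1)]

/-- The linear characters of the inducing subgroups, as exponents of a twelfth root of unity. -/
def muTbl : Fin 14 → Fin 24 → Option (ZMod 12) :=
  ![
    ![some 0, some 0, some 0, some 0, some 0, some 0, some 0, some 0, some 0, some 0, some 0, some 0, some 0, some 0, some 0, some 0, some 0, some 0, some 0, some 0, some 0, some 0, some 0, some 0],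
    ![some 0, some 0, some 0, some 0, some 0, some 0, some 0, some 0, some 0, some 0, some 0, some 0, some 6, some 6, some 6, some 6, some 6, some 6, some 6, some 6, some 6, some 6, some 6, some 6],
    ![some 0, some 0, some 0, some 0, some 4, some 4, some 4, some 4, some 8, some 8, some 8, some 8, none, none, none, none, none, none, none, none, none, none, none, none],
    ![some 0, some 0, some 6, some 6, none, none, none, none, none, none, none, none, some 0, some 0, some 6, some 6, none, none, none, none, none, none, none, none],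
    ![some 0, some 0, some 6, some 6, none, none, none, none, none, none, none, none, some 6, some 6, some 0, some 0, none, none, none, none, none, none, none, none],
    ![some 0, none, none, some 0, none, none, none, none, none, none, none, none, none, none, none, none, none, none, none, none, none, some 0, some 0, none],
    ![some 0, none, none, some 0, none, none, none, none, none, none, none, none, none, none, none, none, none, none, none, none, none, some 6, some 6, none],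
    ![some 0, none, none, some 6, none, none, none, none, none, none, none, none, none, none, none, none, none, none, none, none, none, some 3, some 9, none],
    ![some 0, none, none, some 6, none, none, none, none, none, none, none, none, none, none, none, none, none, none, none, none, none, some 9, some 3, none],
    ![some 0, none, none, none, none, none, none, none, none, none, none, none, none, some 0, none, none, none, none, none, none, none, none, none, none],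
    ![some 0, none, none, none, none, none, none, none, none, none, none, none, none, some 6, none, none, none, none, none, none, none, none, none, none],
    ![some 0, none, none, none, some 0, none, none, none, some 0, none, none, none, none, none, none, none, none, none, none, none, none, none, none, none],
    ![some 0, none, none, none, some 4, none, none, none, some 8, none, none, none, none, none, none, none, none, none, none, none, none, none, none, none],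
    ![some 0, none, none, none, some 8, none, none, none, some 4, none, none, none, none, none, none, none, none, none, none, none, none, none, none, none]]

/-- The index of each inducing subgroup. -/
def idxTbl : Fin 14 → ℤ :=
  ![1, 1, 2, 3, 3, 6, 6, 6, 6, 12, 12, 8, 8, 8]

/-- The ten virtual characters. -/
def coefTbl : Fin 10 → Fin 14 → ℤ :=
  ![
    ![0, 0, 0, 0, 0, 0, 0, 0, 0, 0, 0, 0, 1, -1],
    ![0, 0, 0, 0, 0, 0, 0, 0, 0, 0, 0, 1, -1, 0],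
    ![1, 1, -1, 0, 0, 0, 0, 0, 0, 0, 0, 0, 0, 0],
    ![0, 0, 0, 0, 0, 0, 0, 1, -1, 0, 0, 0, 0, 0],
    ![0, 0, -1, 0, 0, 0, 0, -1, 0, 0, 0, 0, 1, 0],
    ![0, 0, 0, -1, -1, 0, 0, 1, 0, 0, 0, 0, 0, 0],
    ![-1, 0, -1, 0, -1, 1, 0, 0, 0, 0, 0, 0, 0, 0],
    ![0, -1, -1, -1, 0, 0, 1, 0, 0, 0, 0, 0, 0, 0],
    ![-1, 0, 0, -1, 0, 0, 0, 0, 0, 1, 0, 0, -1, 0],
    ![0, -1, 0, 0, -1, 0, 0, 0, 0, 0, 1, 0, -1, 0]]

/-- Class numbers. -/
def clsTbl : Fin 24 → ZMod 3 → ZMod 3 → ZMod 3 → Fin 14 :=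
  fun w a b c => (![
    ![0, 1, 1, 1, 2, 2, 1, 2, 2, 1, 2, 2, 2, 3, 3, 2, 3, 3, 1, 2, 2, 2, 3, 3, 2, 3, 3],
    ![4, 5, 5, 4, 5, 5, 4, 5, 5, 4, 5, 5, 4, 5, 5, 4, 5, 5, 4, 5, 5, 4, 5, 5, 4, 5, 5],
    ![4, 4, 4, 5, 5, 5, 5, 5, 5, 4, 4, 4, 5, 5, 5, 5, 5, 5, 4, 4, 4, 5, 5, 5, 5, 5, 5],
    ![4, 4, 4, 4, 4, 4, 4, 4, 4, 5, 5, 5, 5, 5, 5, 5, 5, 5, 5, 5, 5, 5, 5, 5, 5, 5, 5],
    ![6, 7, 8, 7, 8, 6, 8, 6, 7, 7, 8, 6, 8, 6, 7, 6, 7, 8, 8, 6, 7, 6, 7, 8, 7, 8, 6],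
    ![6, 8, 7, 8, 7, 6, 7, 6, 8, 7, 6, 8, 6, 8, 7, 8, 7, 6, 8, 7, 6, 7, 6, 8, 6, 8, 7],
    ![6, 7, 8, 8, 6, 7, 7, 8, 6, 8, 6, 7, 7, 8, 6, 6, 7, 8, 7, 8, 6, 6, 7, 8, 8, 6, 7],
    ![6, 8, 7, 7, 6, 8, 8, 7, 6, 8, 7, 6, 6, 8, 7, 7, 6, 8, 7, 6, 8, 8, 7, 6, 6, 8, 7],
    ![6, 8, 7, 8, 7, 6, 7, 6, 8, 8, 7, 6, 7, 6, 8, 6, 8, 7, 7, 6, 8, 6, 8, 7, 8, 7, 6],
    ![6, 7, 8, 8, 6, 7, 7, 8, 6, 7, 8, 6, 6, 7, 8, 8, 6, 7, 8, 6, 7, 7, 8, 6, 6, 7, 8],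
    ![6, 7, 8, 7, 8, 6, 8, 6, 7, 8, 6, 7, 6, 7, 8, 7, 8, 6, 7, 8, 6, 8, 6, 7, 6, 7, 8],
    ![6, 8, 7, 7, 6, 8, 8, 7, 6, 7, 6, 8, 8, 7, 6, 6, 8, 7, 8, 7, 6, 6, 8, 7, 7, 6, 8],
    ![9, 9, 9, 10, 10, 10, 10, 10, 10, 10, 10, 10, 9, 9, 9, 10, 10, 10, 10, 10, 10, 10, 10, 10, 9, 9, 9],
    ![9, 9, 9, 10, 10, 10, 10, 10, 10, 10, 10, 10, 10, 10, 10, 9, 9, 9, 10, 10, 10, 9, 9, 9, 10, 10, 10],
    ![11, 12, 13, 11, 12, 13, 11, 12, 13, 11, 12, 13, 11, 12, 13, 11, 12, 13, 11, 12, 13, 11, 12, 13, 11, 12, 13],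
    ![11, 13, 12, 11, 13, 12, 11, 13, 12, 11, 13, 12, 11, 13, 12, 11, 13, 12, 11, 13, 12, 11, 13, 12, 11, 13, 12],
    ![9, 10, 10, 9, 10, 10, 9, 10, 10, 10, 9, 10, 10, 9, 10, 10, 9, 10, 10, 10, 9, 10, 10, 9, 10, 10, 9],
    ![11, 11, 11, 13, 13, 13, 12, 12, 12, 11, 11, 11, 13, 13, 13, 12, 12, 12, 11, 11, 11, 13, 13, 13, 12, 12, 12],
    ![9, 10, 10, 9, 10, 10, 9, 10, 10, 10, 10, 9, 10, 10, 9, 10, 10, 9, 10, 9, 10, 10, 9, 10, 10, 9, 10],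
    ![11, 11, 11, 12, 12, 12, 13, 13, 13, 11, 11, 11, 12, 12, 12, 13, 13, 13, 11, 11, 11, 12, 12, 12, 13, 13, 13],
    ![9, 10, 10, 10, 9, 10, 10, 10, 9, 9, 10, 10, 10, 9, 10, 10, 10, 9, 9, 10, 10, 10, 9, 10, 10, 10, 9],
    ![11, 11, 11, 11, 11, 11, 11, 11, 11, 12, 12, 12, 12, 12, 12, 12, 12, 12, 13, 13, 13, 13, 13, 13, 13, 13, 13],
    ![11, 11, 11, 11, 11, 11, 11, 11, 11, 13, 13, 13, 13, 13, 13, 13, 13, 13, 12, 12, 12, 12, 12, 12, 12, 12, 12],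
    ![9, 10, 10, 10, 10, 9, 10, 9, 10, 9, 10, 10, 10, 10, 9, 10, 9, 10, 9, 10, 10, 10, 10, 9, 10, 9, 10]] : Fin 24 → Fin 27 → Fin 14) w
    ⟨9 * a.val + 3 * b.val + c.val, by have := a.val_lt; have := b.val_lt; have := c.val_lt; omega⟩

/-- Class sizes. -/
def sizeTbl : Fin 14 → ℕ :=
  ![1, 6, 12, 8, 27, 54, 72, 72, 72, 54, 108, 54, 54, 54]

/-- Values on classes, scaled by `24`. -/
def valTbl : Fin 10 → Fin 14 → E4 :=
  ![
    ![(0, 0, 0, 0), (0, 0, 0, 0), (0, 0, 0, 0), (0, 0, 0, 0), (0, 0, 0, 0), (0, 0, 0, 0), (0, 0, 0, 0), (-72, 0, 0, 0), (72, 0, 0, 0), (0, 0, 0, 0), (0, 0, 0, 0), (0, 0, 0, 0), (0, 0, 0, 0), (0, 0, 0, 0)],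
    ![(0, 0, 0, 0), (0, 0, 0, 0), (0, 0, 0, 0), (0, 0, 0, 0), (0, 0, 0, 0), (0, 0, 0, 0), (72, 0, 0, 0), (0, 0, 0, 0), (-72, 0, 0, 0), (0, 0, 0, 0), (0, 0, 0, 0), (0, 0, 0, 0), (0, 0, 0, 0), (0, 0, 0, 0)],
    ![(0, 0, 0, 0), (0, 0, 0, 0), (0, 0, 0, 0), (0, 0, 0, 0), (0, 0, 0, 0), (0, 0, 0, 0), (72, 0, 0, 0), (72, 0, 0, 0), (72, 0, 0, 0), (0, 0, 0, 0), (0, 0, 0, 0), (0, 0, 0, 0), (0, 0, 0, 0), (0, 0, 0, 0)],
    ![(0, 0, 0, 0), (0, 0, 0, 0), (0, 0, 0, 0), (0, 0, 0, 0), (0, 0, 0, 0), (0, 0, 0, 0), (0, 0, 0, 0), (0, 0, 0, 0), (0, 0, 0, 0), (0, 0, 0, 0), (0, 0, 0, 0), (0, 0, 0, 0), (0, -96, 0, 48), (0, 96, 0, -48)],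
    ![(0, 0, 0, 0), (-216, 0, 0, 0), (0, 0, 0, 0), (0, 0, 0, 0), (0, 0, 0, 0), (-72, 0, 0, 0), (0, 0, 0, 0), (0, 0, 0, 0), (72, 0, 0, 0), (0, 0, 0, 0), (0, 0, 0, 0), (0, 0, 0, 0), (0, 48, 0, -24), (0, -48, 0, 24)],
    ![(0, 0, 0, 0), (-72, 0, 0, 0), (-144, 0, 0, 0), (-216, 0, 0, 0), (0, 0, 0, 0), (72, 0, 0, 0), (0, 0, 0, 0), (0, 0, 0, 0), (0, 0, 0, 0), (0, 0, 0, 0), (0, 0, 0, 0), (0, 0, 0, 0), (0, -48, 0, 24), (0, 48, 0, -24)],
    ![(0, 0, 0, 0), (-72, 0, 0, 0), (-144, 0, 0, 0), (-216, 0, 0, 0), (0, 0, 0, 0), (-72, 0, 0, 0), (0, 0, 0, 0), (0, 0, 0, 0), (0, 0, 0, 0), (0, 0, 0, 0), (0, 0, 0, 0), (0, 0, 0, 0), (-72, 0, 0, 0), (-72, 0, 0, 0)],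
    ![(0, 0, 0, 0), (-72, 0, 0, 0), (-144, 0, 0, 0), (-216, 0, 0, 0), (0, 0, 0, 0), (-72, 0, 0, 0), (0, 0, 0, 0), (0, 0, 0, 0), (0, 0, 0, 0), (0, 0, 0, 0), (0, 0, 0, 0), (0, 0, 0, 0), (72, 0, 0, 0), (72, 0, 0, 0)],
    ![(0, 0, 0, 0), (0, 0, 0, 0), (-216, 0, 0, 0), (0, 0, 0, 0), (0, 0, 0, 0), (0, 0, 0, 0), (0, 0, 0, 0), (0, 0, 0, 0), (-72, 0, 0, 0), (0, 0, 0, 0), (-72, 0, 0, 0), (0, 0, 0, 0), (0, 0, 0, 0), (0, 0, 0, 0)],
    ![(0, 0, 0, 0), (0, 0, 0, 0), (-216, 0, 0, 0), (0, 0, 0, 0), (0, 0, 0, 0), (0, 0, 0, 0), (0, 0, 0, 0), (0, 0, 0, 0), (-72, 0, 0, 0), (0, 0, 0, 0), (72, 0, 0, 0), (0, 0, 0, 0), (0, 0, 0, 0), (0, 0, 0, 0)]]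

/-- Class representatives. -/
def repTbl : Fin 14 → A × Fin 24 :=
  ![((0, 0, 0), 0), ((0, 0, 1), 0), ((0, 1, 1), 0), ((1, 1, 1), 0), ((0, 0, 0), 1), ((0, 0, 1), 1), ((0, 0, 0), 4), ((0, 0, 1), 4), ((0, 0, 2), 4), ((0, 0, 0), 12), ((0, 1, 0), 12), ((0, 0, 0), 14), ((0, 0, 1), 14), ((0, 0, 2), 14)]

/-- Values of the monomial characters, scaled by `24`, on the classes. -/
def chiTbl : Fin 14 → Fin 14 → E4 :=
  ![
    ![(24, 0, 0, 0), (24, 0, 0, 0), (24, 0, 0, 0), (24, 0, 0, 0), (24, 0, 0, 0), (24, 0, 0, 0), (24, 0, 0, 0), (24, 0, 0, 0), (24, 0, 0, 0), (24, 0, 0, 0), (24, 0, 0, 0), (24, 0, 0, 0), (24, 0, 0, 0), (24, 0, 0, 0)],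
    ![(24, 0, 0, 0), (24, 0, 0, 0), (24, 0, 0, 0), (24, 0, 0, 0), (24, 0, 0, 0), (24, 0, 0, 0), (24, 0, 0, 0), (24, 0, 0, 0), (24, 0, 0, 0), (-24, 0, 0, 0), (-24, 0, 0, 0), (-24, 0, 0, 0), (-24, 0, 0, 0), (-24, 0, 0, 0)],
    ![(48, 0, 0, 0), (48, 0, 0, 0), (48, 0, 0, 0), (48, 0, 0, 0), (48, 0, 0, 0), (48, 0, 0, 0), (-24, 0, 0, 0), (-24, 0, 0, 0), (-24, 0, 0, 0), (0, 0, 0, 0), (0, 0, 0, 0), (0, 0, 0, 0), (0, 0, 0, 0), (0, 0, 0, 0)],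
    ![(72, 0, 0, 0), (72, 0, 0, 0), (72, 0, 0, 0), (72, 0, 0, 0), (-24, 0, 0, 0), (-24, 0, 0, 0), (0, 0, 0, 0), (0, 0, 0, 0), (0, 0, 0, 0), (24, 0, 0, 0), (24, 0, 0, 0), (-24, 0, 0, 0), (-24, 0, 0, 0), (-24, 0, 0, 0)],
    ![(72, 0, 0, 0), (72, 0, 0, 0), (72, 0, 0, 0), (72, 0, 0, 0), (-24, 0, 0, 0), (-24, 0, 0, 0), (0, 0, 0, 0), (0, 0, 0, 0), (0, 0, 0, 0), (-24, 0, 0, 0), (-24, 0, 0, 0), (24, 0, 0, 0), (24, 0, 0, 0), (24, 0, 0, 0)],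
    ![(144, 0, 0, 0), (72, 0, 0, 0), (0, 0, 0, 0), (-72, 0, 0, 0), (48, 0, 0, 0), (-24, 0, 0, 0), (0, 0, 0, 0), (0, 0, 0, 0), (0, 0, 0, 0), (0, 0, 0, 0), (0, 0, 0, 0), (48, 0, 0, 0), (-24, 0, 0, 0), (-24, 0, 0, 0)],
    ![(144, 0, 0, 0), (72, 0, 0, 0), (0, 0, 0, 0), (-72, 0, 0, 0), (48, 0, 0, 0), (-24, 0, 0, 0), (0, 0, 0, 0), (0, 0, 0, 0), (0, 0, 0, 0), (0, 0, 0, 0), (0, 0, 0, 0), (-48, 0, 0, 0), (24, 0, 0, 0), (24, 0, 0, 0)],
    ![(144, 0, 0, 0), (72, 0, 0, 0), (0, 0, 0, 0), (-72, 0, 0, 0), (-48, 0, 0, 0), (24, 0, 0, 0), (0, 0, 0, 0), (0, 0, 0, 0), (0, 0, 0, 0), (0, 0, 0, 0), (0, 0, 0, 0), (0, 0, 0, 0), (0, -48, 0, 24), (0, 48, 0, -24)],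
    ![(144, 0, 0, 0), (72, 0, 0, 0), (0, 0, 0, 0), (-72, 0, 0, 0), (-48, 0, 0, 0), (24, 0, 0, 0), (0, 0, 0, 0), (0, 0, 0, 0), (0, 0, 0, 0), (0, 0, 0, 0), (0, 0, 0, 0), (0, 0, 0, 0), (0, 48, 0, -24), (0, -48, 0, 24)],
    ![(288, 0, 0, 0), (0, 0, 0, 0), (-72, 0, 0, 0), (72, 0, 0, 0), (0, 0, 0, 0), (0, 0, 0, 0), (0, 0, 0, 0), (0, 0, 0, 0), (0, 0, 0, 0), (48, 0, 0, 0), (-24, 0, 0, 0), (0, 0, 0, 0), (0, 0, 0, 0), (0, 0, 0, 0)],
    ![(288, 0, 0, 0), (0, 0, 0, 0), (-72, 0, 0, 0), (72, 0, 0, 0), (0, 0, 0, 0), (0, 0, 0, 0), (0, 0, 0, 0), (0, 0, 0, 0), (0, 0, 0, 0), (-48, 0, 0, 0), (24, 0, 0, 0), (0, 0, 0, 0), (0, 0, 0, 0), (0, 0, 0, 0)],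
    ![(192, 0, 0, 0), (-96, 0, 0, 0), (48, 0, 0, 0), (-24, 0, 0, 0), (0, 0, 0, 0), (0, 0, 0, 0), (48, 0, 0, 0), (-24, 0, 0, 0), (-24, 0, 0, 0), (0, 0, 0, 0), (0, 0, 0, 0), (0, 0, 0, 0), (0, 0, 0, 0), (0, 0, 0, 0)],
    ![(192, 0, 0, 0), (-96, 0, 0, 0), (48, 0, 0, 0), (-24, 0, 0, 0), (0, 0, 0, 0), (0, 0, 0, 0), (-24, 0, 0, 0), (-24, 0, 0, 0), (48, 0, 0, 0), (0, 0, 0, 0), (0, 0, 0, 0), (0, 0, 0, 0), (0, 0, 0, 0), (0, 0, 0, 0)],
    ![(192, 0, 0, 0), (-96, 0, 0, 0), (48, 0, 0, 0), (-24, 0, 0, 0), (0, 0, 0, 0), (0, 0, 0, 0), (-24, 0, 0, 0), (48, 0, 0, 0), (-24, 0, 0, 0), (0, 0, 0, 0), (0, 0, 0, 0), (0, 0, 0, 0), (0, 0, 0, 0), (0, 0, 0, 0)]]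

/-- The class of an element. -/
def cls (p : A × Fin 24) : Fin 14 := clsTbl p.2 p.1.1 p.1.2.1 p.1.2.2

/-- The summand of the monomial character. -/
def chiTerm (i : Fin 14) (a : A) (w v : Fin 24) : E4 :=
  match muTbl i (mulW (mulW (invW v) w) v) with
  | some m => zp (four (dot (lamTbl i) (act (invW v) a)) + m)
  | none => 0

set_option maxRecDepth 100000 in
theorem chi_table_aux : ∀ i : Fin 14, ∀ w : Fin 24, ∀ a : A,
    smul4 (idxTbl i) (∑ v, chiTerm i a w v) = chiTbl i (cls (a, w)) := by decide +kernel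

theorem val_table : ∀ k : Fin 10, ∀ c : Fin 14,
    ∑ i, smul4 (coefTbl k i) (chiTbl i c) = valTbl k c := by decide +kernel

theorem idx_card : ∀ i : Fin 14,
    idxTbl i * ((Finset.univ.filter fun w => (muTbl i w).isSome).card : ℤ) = 24 := by
  decide +kernel

theorem stab_closed : ∀ i : Fin 14, (muTbl i 0 = some 0) ∧ ∀ s : Fin 24, ∀ m ∈ muTbl i s,
    (muTbl i (invW s)).isSome ∧
    ∀ t : Fin 24, ∀ n ∈ muTbl i t, muTbl i (mulW s t) = some (m + n) := by decide +kernel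

theorem stab_lam : ∀ i : Fin 14, ∀ s : Fin 24, (muTbl i s).isSome → ∀ a : A,
    dot (lamTbl i) (act s a) = dot (lamTbl i) a := by decide +kernel

theorem dot_add (l a b : A) : dot l (a + b) = dot l a + dot l b := by
  simp only [dot, Prod.fst_add, Prod.snd_add]; ring

theorem four_add : ∀ j k : ZMod 3, four (j + k) = four j + four k := by decide +kernel

theorem zp_add : ∀ j k : ZMod 12, zp (j + k) = mul4 (zp j) (zp k) := by decide +kernel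

theorem sqrt3_sq : (Real.sqrt 3 : ℂ) * (Real.sqrt 3 : ℂ) = 3 := by
  rw [← Complex.ofReal_mul, Real.mul_self_sqrt (by norm_num)]
  norm_num

theorem zeta_sq : zeta ^ 2 = (1 + (Real.sqrt 3 : ℂ) * Complex.I) / 2 := by
  rw [zeta]
  linear_combination (1 / 4 : ℂ) * sqrt3_sq + (1 / 4 : ℂ) * Complex.I_mul_I

theorem zeta_cube : zeta ^ 3 = Complex.I := by
  rw [pow_succ, zeta_sq, zeta]
  linear_combination (Complex.I / 4) * sqrt3_sq + ((Real.sqrt 3 : ℂ) / 4) * Complex.I_mul_I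

theorem zeta_four : zeta ^ 4 = zeta ^ 2 - 1 := by
  rw [show (4 : ℕ) = 2 * 2 from rfl, pow_mul, zeta_sq]
  linear_combination (Complex.I * Complex.I / 4) * sqrt3_sq + (3 / 4 : ℂ) * Complex.I_mul_I

theorem conj_zeta : conj zeta = zeta - zeta ^ 3 := by
  rw [zeta_cube, zeta]
  simp only [map_div₀, map_add, Complex.conj_ofReal, Complex.conj_I, map_ofNat]
  ring

theorem conj_zeta_sq : conj (zeta ^ 2) = 1 - zeta ^ 2 := by
  rw [zeta_sq]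
  simp only [map_div₀, map_add, map_mul, map_one, Complex.conj_ofReal, Complex.conj_I, map_ofNat]
  ring

theorem conj_zeta_cube : conj (zeta ^ 3) = -zeta ^ 3 := by rw [zeta_cube, Complex.conj_I]

theorem toC4_mul (p q : E4) : toC4 (mul4 p q) = toC4 p * toC4 q := by
  have h5 : zeta ^ 5 = zeta ^ 3 - zeta := by
    linear_combination zeta * zeta_four
  have h6 : zeta ^ 6 = -1 := by
    rw [show (6 : ℕ) = 3 * 2 from rfl, pow_mul, zeta_cube, Complex.I_sq]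
  simp only [toC4, mul4]
  push_cast
  linear_combination (-((p.2.1 : ℂ) * q.2.2.2 + (p.2.2.1 : ℂ) * q.2.2.1 +
    (p.2.2.2 : ℂ) * q.2.1)) * zeta_four -
    ((p.2.2.1 : ℂ) * q.2.2.2 + (p.2.2.2 : ℂ) * q.2.2.1) * h5 -
    ((p.2.2.2 : ℂ) * q.2.2.2) * h6

theorem toC4_conj (p : E4) : toC4 (conj4 p) = conj (toC4 p) := by
  simp only [toC4, conj4, map_add, map_mul, map_intCast, conj_zeta, conj_zeta_sq, conj_zeta_cube]
  push_cast
  ring

theorem toC4_zero : toC4 0 = 0 := by simp [toC4]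

theorem toC4_add (p q : E4) : toC4 (p + q) = toC4 p + toC4 q := by
  simp only [toC4, Prod.fst_add, Prod.snd_add]
  push_cast
  ring

theorem toC4_smul (n : ℤ) (p : E4) : toC4 (smul4 n p) = (n : ℂ) * toC4 p := by
  simp only [toC4, smul4]
  push_cast
  ring

theorem toC4_sum {ι : Type*} (s : Finset ι) (f : ι → E4) :
    toC4 (∑ i ∈ s, f i) = ∑ i ∈ s, toC4 (f i) := by
  classical
  induction s using Finset.induction_on with
  | empty => simp [toC4_zero]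
  | insert a t ha ih => rw [Finset.sum_insert ha, Finset.sum_insert ha, toC4_add, ih]

theorem zp_zero : toC4 (zp 0) = 1 := by
  rw [show zp 0 = (1, 0, 0, 0) from rfl]; simp [toC4]

/-- The linear character of the inducing subgroup, extended by zero. -/
noncomputable def lamFun (i : Fin 14) (p : A × Fin 24) : ℂ :=
  match muTbl i p.2 with
  | some m => toC4 (zp (four (dot (lamTbl i) p.1) + m))
  | none => 0

theorem chiTerm_eq (i : Fin 14) (a : A) (w v : Fin 24) :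
    toC4 (chiTerm i a w v) = lamFun i (act (invW v) a, mulW (mulW (invW v) w) v) := by
  rw [chiTerm, lamFun]
  dsimp only
  split <;> simp [toC4_zero]

/-- The values of the ten functions. -/
noncomputable def phi (k : Fin 10) (p : A × Fin 24) : ℂ := toC4 (valTbl k (cls p)) / 24

theorem class_count : ∀ c : Fin 14,
    (Finset.univ.filter fun p : A × Fin 24 => cls p = c).card = sizeTbl c := by decide +kernel

/-- The scaled inner product table. -/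
def gram4 (k l : Fin 10) : E4 :=
  ∑ c : Fin 14, smul4 (sizeTbl c) (mul4 (valTbl k c) (conj4 (valTbl l c)))

theorem gram_table : ∀ k l : Fin 10,
    gram4 k l = (648 * 576 * Search.gramN k.val l.val, 0, 0, 0) := by decide +kernel

theorem triv_table : ∀ k : Fin 10,
    ∑ c : Fin 14, smul4 (sizeTbl c) (valTbl k c) = (648 * 24 * Search.trivN k.val, 0, 0, 0) := by
  decide +kernel

theorem sum_cls {M : Type*} [AddCommMonoid M] (f : Fin 14 → M) :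
    ∑ p : A × Fin 24, f (cls p) = ∑ c, sizeTbl c • f c := by
  classical
  rw [← Finset.sum_fiberwise' Finset.univ cls f]
  exact Finset.sum_congr rfl fun c _ => by rw [Finset.sum_const, class_count]

theorem phi_gram (k l : Fin 10) :
    ∑ p : A × Fin 24, phi k p * conj (phi l p) = 648 * (Search.gramN k.val l.val : ℂ) := by
  simp only [phi]
  rw [sum_cls fun c => toC4 (valTbl k c) / 24 * conj (toC4 (valTbl l c) / 24)]
  have h : ∀ c, sizeTbl c • (toC4 (valTbl k c) / 24 * conj (toC4 (valTbl l c) / 24)) =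
      toC4 (smul4 (sizeTbl c) (mul4 (valTbl k c) (conj4 (valTbl l c)))) / 576 := by
    intro c
    rw [toC4_smul, toC4_mul, toC4_conj, nsmul_eq_mul, map_div₀, map_ofNat, Int.cast_natCast]
    ring
  rw [Finset.sum_congr rfl fun c _ => h c, ← Finset.sum_div, ← toC4_sum,
    show (∑ c, smul4 (sizeTbl c) (mul4 (valTbl k c) (conj4 (valTbl l c)))) = gram4 k l from rfl,
    gram_table]
  simp [toC4]
  ring

theorem phi_triv (k : Fin 10) :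
    ∑ p : A × Fin 24, phi k p = 648 * (Search.trivN k.val : ℂ) := by
  simp only [phi]
  rw [sum_cls fun c => toC4 (valTbl k c) / 24]
  have h : ∀ c, sizeTbl c • (toC4 (valTbl k c) / 24) =
      toC4 (smul4 (sizeTbl c) (valTbl k c)) / 24 := by
    intro c
    rw [toC4_smul, nsmul_eq_mul, Int.cast_natCast]
    ring
  rw [Finset.sum_congr rfl fun c _ => h c, ← Finset.sum_div, ← toC4_sum, triv_table]
  simp [toC4]
  ring

end Cfsg.Agent.Lib.Fgs9.CubeSix
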