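import Cfsg.Agent.Lib.Fgs9.CubeSix.Model
import Cfsg.Agent.Lib.Fgs9.CubeSix.Centralisers
import Cfsg.Agent.Lib.Fgs9.TriangleConstants
import Cfsg.Agent.Lib.Cores.Basic
import Cfsg.Prelude.Def_TwoFusion
import Mathlib.GroupTheory.Transfer

/-!
# Local structure of a group with strongly closed `3³` in `3³ : S₄`
-/

namespace Cfsg.Agent.Lib.Fgs9.CubeSix

open Cfsg.Agent.Lib.Fgs9.CubeFour (A dot emb)

universe u

/-- Powers in `S₄`. -/
def powW (w : Fin 24) : ℕ → Fin 24
  | 0 => 0
  | n + 1 => mulW (powW w n) w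

/-- The sum of `a` over the orbit of `⟨w⟩`, with multiplicity. -/
def nrmA (w : Fin 24) (a : A) : ℕ → A
  | 0 => 0
  | n + 1 => nrmA w a n + act (powW w n) a

theorem w_zero_or_three : ∀ w : Fin 24, powW w 4 = 0 ∨ powW w 3 = 0 := by decide +kernel

theorem exists_comm : ∀ w : Fin 24, w ≠ 0 → powW w 3 = 0 →
    ∃ v : Fin 24, powW (mulW (mulW (mulW v w) (invW v)) (invW w)) 3 ≠ 0 := by decide +kernel

theorem pow3_twentyseven : ∀ a : A, a + a + a = 0 := by decide +kernel

theorem weight_ne : ((1, 0, 0) : A) ≠ 0 ∧ ((1, 1, 0) : A) ≠ 0 ∧ ((1, 1, 1) : A) ≠ 0 := by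
  decide +kernel

theorem weight_notMem : ((1, 0, 0) : A) ∉ ({(1, 1, 0), (1, 1, 1)} : Finset A) ∧
    ((1, 1, 0) : A) ∉ ({(1, 1, 1)} : Finset A) := by decide +kernel

theorem card_stab_two :
    (Finset.univ.filter fun w : Fin 24 => act w ((1, 1, 0) : A) = (1, 1, 0)).card = 2 := by
  decide +kernel

/-- Representatives of the orbits on `F₃³`. -/
def wtRep (a : A) : A :=
  if a.1 = 0 then
    (if a.2.1 = 0 then (if a.2.2 = 0 then 0 else (1, 0, 0))
      else (if a.2.2 = 0 then (1, 0, 0) else (1, 1, 0)))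
  else if a.2.1 = 0 then (if a.2.2 = 0 then (1, 0, 0) else (1, 1, 0))
  else if a.2.2 = 0 then (1, 1, 0) else (1, 1, 1)

theorem exists_act_wtRep : ∀ a : A, ∃ w, act w (wtRep a) = a ∧ act (invW w) a = wtRep a := by
  decide +kernel

theorem orbit_counts :
    (Finset.univ.filter fun a : A => wtRep a = (1, 0, 0)).card = 6 ∧
    (Finset.univ.filter fun a : A => wtRep a = (1, 1, 0)).card = 12 ∧
    (Finset.univ.filter fun a : A => wtRep a = (1, 1, 1)).card = 8 := by decide +kernel

theorem wtRep_cases : ∀ a : A, a ≠ 0 →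
    wtRep a = (1, 0, 0) ∨ wtRep a = (1, 1, 0) ∨ wtRep a = (1, 1, 1) := by decide +kernel

variable {G : Type u} [Group G] [Finite G]

/-- The coordinates of the configuration in `G`. -/
structure Frame (G : Type u) [Group G] (H : Subgroup G) where
  /-- coordinates of all elements of `H` -/
  el : A × Fin 24 → G
  el_mem : ∀ p, el p ∈ H
  el_mul : ∀ p q, el p * el q = el (mulC p q)
  el_inj : Function.Injective el
  el_surj : ∀ h ∈ H, ∃ p, h = el p
  cent : ∀ a, a ≠ 0 → Subgroup.centralizer ({el (a, 0)} : Set G) ≤ H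
  sc : ∀ a, ∀ g : G, g * el (a, 0) * g⁻¹ ∈ H → ∃ b, g * el (a, 0) * g⁻¹ = el (b, 0)
  fusion : ∀ a, a ≠ 0 → ∀ g : G, g * el (a, 0) * g⁻¹ ∈ H → g ∈ H
  pgrp : ∀ a, a ≠ 0 → ∀ P : Subgroup G, IsPGroup 3 P → el (a, 0) ∈ P → P ≤ H
  sylow81 : ∀ S : Sylow 3 G, Nat.card (S : Subgroup G) = 81

theorem mul_base (a b : A) : mulC (a, 0) (b, 0) = (a + b, 0) := by
  simp only [mulC]
  rw [act_zero_left, (mulW_zero _).1]

theorem conj_el {el : A × Fin 24 → G} (hm : ∀ p q, el p * el q = el (mulC p q))
    (hi : Function.Injective el) (p : A × Fin 24) (a : A) :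
    el p * el (a, 0) * (el p)⁻¹ = el (act p.2 a, 0) := by
  rw [mul_inv_eq_iff_eq_mul, hm, hm]
  congr 1
  simp only [mulC]
  rw [act_zero_left, (mulW_zero _).1, (mulW_zero _).2, add_comm]

theorem el_zero {el : A × Fin 24 → G} (hm : ∀ p q, el p * el q = el (mulC p q)) :
    el (0, 0) = 1 := by
  have := hm (0, 0) (0, 0)
  rwa [mul_base, add_zero, mul_eq_left] at this

theorem el_pow_snd {el : A × Fin 24 → G} (hm : ∀ p q, el p * el q = el (mulC p q))
    (p : A × Fin 24) (n : ℕ) : el p ^ n = el (nrmA p.2 p.1 n, powW p.2 n) := by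
  induction n with
  | zero => rw [pow_zero]; exact (el_zero hm).symm
  | succ n ih => rw [pow_succ, ih, hm]; rfl

theorem el_pow_three {el : A × Fin 24 → G} (hm : ∀ p q, el p * el q = el (mulC p q))
    (a : A) : el (a, 0) ^ 3 = 1 := by
  rw [pow_succ, pow_two, hm, mul_base, hm, mul_base, pow3_twentyseven, el_zero hm]

theorem el_neg {el : A × Fin 24 → G} (hm : ∀ p q, el p * el q = el (mulC p q)) (a : A) :
    el (-a, 0) = (el (a, 0))⁻¹ :=
  eq_inv_of_mul_eq_one_left (by rw [hm, mul_base, neg_add_cancel, el_zero hm])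

/-- The elementary abelian subgroup. -/
def baseJ {el : A × Fin 24 → G} (hm : ∀ p q, el p * el q = el (mulC p q)) : Subgroup G where
  carrier := Set.range fun a : A => el (a, 0)
  mul_mem' := by rintro _ _ ⟨a, rfl⟩ ⟨b, rfl⟩; exact ⟨a + b, by simp [hm, mul_base]⟩
  one_mem' := ⟨0, el_zero hm⟩
  inv_mem' := by rintro _ ⟨a, rfl⟩; exact ⟨-a, el_neg hm a⟩

/-- Existence of the frame. -/
theorem exists_frame (H : Subgroup G)
    (hH : Nonempty (↥H ≃* ↥(Subgroup.closure gens)))
    (J : Subgroup G) (hJ : J = (Cfsg.pCore 3 ↥H).map H.subtype)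
    (hC : ∀ j ∈ J, j ≠ 1 → Subgroup.centralizer ({j} : Set G) ≤ H)
    (hsc : Cfsg.IsStronglyClosed J H) : Nonempty (Frame G H) := by
  haveI : Fact (Nat.Prime 3) := ⟨Nat.prime_three⟩
  rw [closure_gens] at hH
  obtain ⟨φ⟩ := hH
  let el : A × Fin 24 → G := fun p => ((φ.symm ⟨elt p, p, rfl⟩ : H) : G)
  have hmem : ∀ p, el p ∈ H := fun p => SetLike.coe_mem _
  have hm : ∀ p q, el p * el q = el (mulC p q) := by
    intro p q
    simp only [el, ← Subgroup.coe_mul, ← map_mul]
    congr 2
    exact Subtype.ext (elt_mul p q)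
  have hi : Function.Injective el := by
    intro p q h
    exact elt_injective (Subtype.ext_iff.1 (φ.symm.injective (Subtype.ext h)))
  have hs : ∀ h ∈ H, ∃ p, h = el p := by
    intro h hh
    obtain ⟨p, hp⟩ := (φ ⟨h, hh⟩).2
    refine ⟨p, ?_⟩
    have : (⟨elt p, p, rfl⟩ : model) = φ ⟨h, hh⟩ := Subtype.ext hp
    simp [el, this]
  have hcardH : Nat.card H = 648 := by rw [Nat.card_congr φ.toEquiv, model_card]
  have hJR : J = baseJ hm := by
    apply le_antisymm
    · rw [hJ]
      rintro _ ⟨h, hh, rfl⟩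
      have key : ∀ h ∈ Cfsg.pCore 3 ↥H, ∀ a w, (h : G) = el (a, w) → powW w 3 = 0 := by
        intro h hh a w hw
        obtain ⟨k, hk⟩ := Cfsg.Agent.Lib.Cores.pCore_isPGroup (G := H) 3 ⟨h, hh⟩
        have hk' : (h : G) ^ 3 ^ k = 1 := by
          have := congrArg (fun z : Cfsg.pCore 3 ↥H => ((z : H) : G)) hk
          simpa using this
        rcases w_zero_or_three w with h4 | h3
        · have e4 : el (a, w) ^ 4 = el (nrmA w a 4, 0) := by rw [el_pow_snd hm, h4]
          have e12 : el (a, w) ^ 12 = 1 := by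
            rw [show (12 : ℕ) = 4 * 3 from rfl, pow_mul, e4, el_pow_three hm]
          have hcop : orderOf (el (a, w)) ∣ Nat.gcd 12 (3 ^ k) :=
            Nat.dvd_gcd (orderOf_dvd_of_pow_eq_one e12) (orderOf_dvd_of_pow_eq_one (hw ▸ hk'))
          have hgcd : Nat.gcd 12 (3 ^ k) ∣ 3 := by
            have h1 : Nat.gcd 12 (3 ^ k) ∣ 3 * 4 := Nat.gcd_dvd_left _ _
            refine Nat.Coprime.dvd_of_dvd_mul_right ?_ h1
            exact Nat.Coprime.coprime_dvd_left (Nat.gcd_dvd_right _ _)
              (Nat.Coprime.pow_left k (by norm_num))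
          have e3 := orderOf_dvd_iff_pow_eq_one.1 (hcop.trans hgcd)
          rw [el_pow_snd hm, ← el_zero hm] at e3
          exact (Prod.ext_iff.1 (hi e3)).2
        · exact h3
      obtain ⟨⟨a, w⟩, hp⟩ := hs (H.subtype h) (SetLike.coe_mem h)
      by_cases hw : w = 0
      · subst hw; exact ⟨a, hp.symm⟩
      · exfalso
        obtain ⟨v, hv⟩ := exists_comm w hw (key h hh a w hp)
        let g : H := ⟨el (0, v), hmem _⟩
        have hc : g * h * g⁻¹ * h⁻¹ ∈ Cfsg.pCore 3 ↥H := by
          have hn : (Cfsg.pCore 3 ↥H).Normal :=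
            Subgroup.sSup_normal _ fun K hK => hK.1
          exact mul_mem (hn.conj_mem h hh g) (inv_mem hh)
        obtain ⟨⟨c, u⟩, hu⟩ := hs ((g * h * g⁻¹ * h⁻¹ : H) : G) (SetLike.coe_mem _)
        apply hv
        have hu' : el (c, u) * (el (a, w) * el (0, v)) = el (0, v) * el (a, w) := by
          rw [← hu]
          have e1 : (g : G) = el (0, v) := rfl
          have e2 : (h : G) = el (a, w) := hp
          simp only [Subgroup.coe_mul, Subgroup.coe_inv, e1, e2]
          group
        rw [hm, hm, hm] at hu'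
        have h2 := (Prod.ext_iff.1 (hi hu')).2
        simp only [mulC] at h2
        have h3 := key _ hc c u hu
        have hu2 : u = mulW (mulW (mulW v w) (invW v)) (invW w) := by
          rw [← h2]
          simp only [mulW_assoc]
          rw [← mulW_assoc v (invW v), mulW_inv_right, (mulW_zero _).2, mulW_inv_right,
            (mulW_zero _).1]
        rw [← hu2]; exact h3
    · rintro _ ⟨a, rfl⟩
      rw [hJ]
      refine ⟨⟨el (a, 0), hmem _⟩, ?_, rfl⟩
      let N : Subgroup H := (baseJ hm).subgroupOf H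
      haveI hN : N.Normal := by
        constructor
        rintro n ⟨b, hb⟩ g
        obtain ⟨p, hp⟩ := hs (g : G) g.2
        refine ⟨act p.2 b, ?_⟩
        simp only [Subgroup.subtype_apply, Subgroup.coe_mul, Subgroup.coe_inv] at hb ⊢
        rw [← hb, hp, conj_el hm hi]
      have hNp : IsPGroup 3 N := by
        intro n
        obtain ⟨b, hb⟩ := n.2
        refine ⟨1, ?_⟩
        apply Subtype.ext; apply Subtype.ext
        simp only [pow_one, SubmonoidClass.coe_pow, OneMemClass.coe_one]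
        rw [show ((n : H) : G) = el (b, 0) from hb.symm, el_pow_three hm]
      exact Cfsg.Agent.Lib.Cores.le_pCore hNp (show el (a, 0) ∈ baseJ hm from ⟨a, rfl⟩)
  have hJmem : ∀ a, el (a, 0) ∈ J := fun a => hJR ▸ ⟨a, rfl⟩
  have hne : ∀ a : A, a ≠ 0 → el (a, 0) ≠ 1 := by
    intro a ha h
    rw [← el_zero hm] at h
    exact ha (Prod.ext_iff.1 (hi h)).1
  have cent : ∀ a, a ≠ 0 → Subgroup.centralizer ({el (a, 0)} : Set G) ≤ H :=
    fun a ha => hC _ (hJmem a) (hne a ha)
  have sc : ∀ a, ∀ g : G, g * el (a, 0) * g⁻¹ ∈ H → ∃ b, g * el (a, 0) * g⁻¹ = el (b, 0) := by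
    intro a g hg
    have h := hsc.2 _ (hJmem a) g hg
    rw [hJR] at h
    obtain ⟨b, hb⟩ := h
    exact ⟨b, hb.symm⟩
  -- the normaliser of `J` is `H`
  let M := Subgroup.normalizer (J : Set G)
  have hHM : H ≤ M := by
    intro h hh
    obtain ⟨p, rfl⟩ := hs h hh
    refine Subgroup.mem_normalizer_fintype fun j hj => ?_
    rw [SetLike.mem_coe, hJR] at hj ⊢
    obtain ⟨b, rfl⟩ := hj
    exact ⟨act p.2 b, (conj_el hm hi p b).symm⟩
  have hMH : M = H := by
    classical
    let a0 : A := (1, 1, 0)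
    have ha0 : a0 ≠ 0 := weight_ne.2.1
    have hψ : ∀ g : M, ∃ b, (g : G) * el (a0, 0) * (g : G)⁻¹ = el (b, 0) := by
      intro g
      have h := (Subgroup.mem_normalizer_iff.1 g.2 _).1 (hJmem a0)
      rw [hJR] at h
      obtain ⟨b, hb⟩ := h
      exact ⟨b, hb.symm⟩
    choose ψ hψ using hψ
    letI := Fintype.ofFinite M
    let O := Finset.univ.image ψ
    have hfib : ∀ b ∈ O, (Finset.univ.filter fun g : M => ψ g = b).card = 54 := by
      intro b hb
      obtain ⟨g0, -, hg0⟩ := Finset.mem_image.1 hb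
      let S := Finset.univ.filter fun p : A × Fin 24 => act p.2 a0 = a0
      have hS : S.card = 54 := by
        have : S = (Finset.univ : Finset A) ×ˢ
            (Finset.univ.filter fun w => act w a0 = a0) := by
          ext p; simp [S]
        rw [this, Finset.card_product, card_stab_two]
        rfl
      rw [← hS]
      refine (Finset.card_bij (fun p _ => g0 * ⟨el p, hHM (hmem p)⟩) ?_ ?_ ?_).symm
      · intro p hp
        simp only [Finset.mem_filter, Finset.mem_univ, true_and, S] at hp ⊢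
        have h1 := hψ (g0 * ⟨el p, hHM (hmem p)⟩)
        have h2 : ((g0 * ⟨el p, hHM (hmem p)⟩ : M) : G) * el (a0, 0) *
            ((g0 * ⟨el p, hHM (hmem p)⟩ : M) : G)⁻¹ = el (b, 0) := by
          rw [Subgroup.coe_mul, ← hg0, ← hψ g0]
          calc (g0 : G) * el p * el (a0, 0) * ((g0 : G) * el p)⁻¹
              = (g0 : G) * (el p * el (a0, 0) * (el p)⁻¹) * (g0 : G)⁻¹ := by group
            _ = _ := by rw [conj_el hm hi, hp]
        exact (Prod.ext_iff.1 (hi (h1.symm.trans h2))).1
      · intro p _ q _ h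
        have h' : (⟨el p, hHM (hmem p)⟩ : M) = ⟨el q, hHM (hmem q)⟩ := mul_left_cancel h
        exact hi (congrArg (fun z : M => (z : G)) h')
      · intro g hg
        simp only [Finset.mem_filter, Finset.mem_univ, true_and] at hg
        have hc : ((g0⁻¹ * g : M) : G) * el (a0, 0) * ((g0⁻¹ * g : M) : G)⁻¹ = el (a0, 0) := by
          have e1 := hψ g0
          have e2 := hψ g
          rw [hg, ← hg0, ← e1] at e2
          calc ((g0⁻¹ * g : M) : G) * el (a0, 0) * ((g0⁻¹ * g : M) : G)⁻¹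
              = (g0 : G)⁻¹ * ((g : G) * el (a0, 0) * (g : G)⁻¹) * (g0 : G) := by
                simp only [Subgroup.coe_mul, Subgroup.coe_inv]; group
            _ = _ := by rw [e2]; group
        have hH' : ((g0⁻¹ * g : M) : G) ∈ H :=
          cent a0 ha0 (Subgroup.mem_centralizer_singleton_iff.2 (mul_inv_eq_iff_eq_mul.1 hc))
        obtain ⟨p, hp⟩ := hs _ hH'
        refine ⟨p, ?_, ?_⟩
        · simp only [Finset.mem_filter, Finset.mem_univ, true_and, S]
          rw [hp, conj_el hm hi] at hc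
          exact (Prod.ext_iff.1 (hi hc)).1
        · apply Subtype.ext
          rw [Subgroup.coe_mul]
          show (g0 : G) * el p = g
          rw [← hp, Subgroup.coe_mul, Subgroup.coe_inv, mul_inv_cancel_left]
    have hcardM : Nat.card M = O.card * 54 := by
      rw [Nat.card_eq_fintype_card, ← Finset.card_univ,
        Finset.card_eq_sum_card_fiberwise (f := ψ) (t := O) (fun g _ =>
          Finset.mem_image.2 ⟨g, Finset.mem_univ _, rfl⟩), Finset.sum_congr rfl hfib,
        Finset.sum_const, smul_eq_mul]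
    have hinv : ∀ w b, b ∈ O → act w b ∈ O := by
      intro w b hb
      obtain ⟨g, -, hg⟩ := Finset.mem_image.1 hb
      refine Finset.mem_image.2 ⟨⟨el (0, w), hHM (hmem _)⟩ * g, Finset.mem_univ _, ?_⟩
      have h1 := hψ (⟨el (0, w), hHM (hmem _)⟩ * g)
      have h2 : ((⟨el (0, w), hHM (hmem _)⟩ * g : M) : G) * el (a0, 0) *
          ((⟨el (0, w), hHM (hmem _)⟩ * g : M) : G)⁻¹ = el (act w b, 0) := by
        rw [Subgroup.coe_mul]
        calc el (0, w) * (g : G) * el (a0, 0) * (el (0, w) * (g : G))⁻¹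
            = el (0, w) * ((g : G) * el (a0, 0) * (g : G)⁻¹) * (el (0, w))⁻¹ := by group
          _ = _ := by rw [hψ g, hg, conj_el hm hi]
      exact (Prod.ext_iff.1 (hi (h1.symm.trans h2))).1
    have hrep : ∀ b, b ∈ O ↔ wtRep b ∈ O := by
      intro b
      obtain ⟨w, hw1, hw2⟩ := exists_act_wtRep b
      exact ⟨fun h => hw2 ▸ hinv _ _ h, fun h => hw1 ▸ hinv _ _ h⟩
    have h2mem : ((1, 1, 0) : A) ∈ O := by
      refine Finset.mem_image.2 ⟨1, Finset.mem_univ _, ?_⟩
      have h1 := hψ 1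
      simp only [OneMemClass.coe_one, one_mul, inv_one, mul_one] at h1
      exact ((Prod.ext_iff.1 (hi h1)).1).symm
    have h0 : (0 : A) ∉ O := by
      intro h
      obtain ⟨g, -, hg⟩ := Finset.mem_image.1 h
      have h1 := hψ g
      rw [hg, el_zero hm, conj_eq_one_iff] at h1
      exact hne a0 ha0 h1
    obtain ⟨n1, n2, n3⟩ := orbit_counts
    have hcardO : O.card = 12 + (if ((1, 0, 0) : A) ∈ O then 6 else 0) +
        (if ((1, 1, 1) : A) ∈ O then 8 else 0) := by
      have hmaps : ∀ b ∈ O, wtRep b ∈ ({(1, 0, 0), (1, 1, 0), (1, 1, 1)} : Finset A) := by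
        intro b hb
        have : b ≠ 0 := fun e => h0 (e ▸ hb)
        rcases wtRep_cases b this with e | e | e <;> simp [e]
      have hfilter : ∀ c : A, (O.filter fun b => wtRep b = c).card =
          if c ∈ O then (Finset.univ.filter fun b : A => wtRep b = c).card else 0 := by
        intro c
        split_ifs with hc
        · congr 1
          ext b
          simp only [Finset.mem_filter, Finset.mem_univ, true_and]
          exact ⟨fun h => h.2, fun h => ⟨(hrep b).2 (h ▸ hc), h⟩⟩
        · rw [Finset.card_eq_zero, Finset.filter_eq_empty_iff]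
          intro b hb e
          exact hc (e ▸ (hrep b).1 hb)
      rw [Finset.card_eq_sum_card_fiberwise (f := wtRep) hmaps, Finset.sum_insert weight_notMem.1,
        Finset.sum_insert weight_notMem.2, Finset.sum_singleton, hfilter, hfilter, hfilter, n1, n2, n3,
        if_pos h2mem]
      omega
    have hdvd : 648 ∣ Nat.card M := hcardH ▸ Subgroup.card_dvd_of_le hHM
    have h12 : O.card = 12 := by
      rw [hcardM] at hdvd
      split_ifs at hcardO <;> omega
    exact (Subgroup.eq_of_le_of_card_ge hHM (by rw [hcardM, h12, hcardH])).symm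
  have fusion : ∀ a, a ≠ 0 → ∀ g : G, g * el (a, 0) * g⁻¹ ∈ H → g ∈ H := by
    intro a ha g hg
    obtain ⟨b, hb⟩ := sc a g hg
    have hb0 : b ≠ 0 := by
      intro e
      rw [e, el_zero hm, conj_eq_one_iff] at hb
      exact hne a ha hb
    rw [← hMH]
    refine Subgroup.mem_normalizer_fintype fun j hj => ?_
    rw [SetLike.mem_coe, hJR] at hj ⊢
    obtain ⟨c, rfl⟩ := hj
    have hc : g * el (c, 0) * g⁻¹ ∈ H := by
      refine cent b hb0 (Subgroup.mem_centralizer_singleton_iff.2 ?_)
      rw [← hb]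
      calc g * el (c, 0) * g⁻¹ * (g * el (a, 0) * g⁻¹) = g * (el (c, 0) * el (a, 0)) * g⁻¹ := by
            group
        _ = g * (el (a, 0) * el (c, 0)) * g⁻¹ := by rw [hm, hm, mul_base, mul_base, add_comm]
        _ = _ := by group
    obtain ⟨d, hd⟩ := sc c g hc
    exact ⟨d, hd.symm⟩
  -- a Sylow subgroup inside `H`
  obtain ⟨PH⟩ : Nonempty (Sylow 3 H) := inferInstance
  let P0 : Subgroup G := (PH : Subgroup H).map H.subtype
  have hP0H : P0 ≤ H := Subgroup.map_subtype_le _
  have hP0card : Nat.card P0 = 81 := by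
    rw [Subgroup.card_map_of_injective H.subtype_injective, PH.card_eq_multiplicity, hcardH]
    have h81 : (648 : ℕ).factorization 3 = 4 := by
      rw [show (648 : ℕ) = 3 ^ 4 * 8 from rfl, Nat.factorization_mul (by norm_num) (by norm_num),
        Finsupp.add_apply, Nat.Prime.factorization_pow Nat.prime_three, Finsupp.single_eq_same,
        Nat.factorization_eq_zero_of_not_dvd (by norm_num)]
    rw [h81]; rfl
  have hP0p : IsPGroup 3 P0 := IsPGroup.of_card (n := 4) (by rw [hP0card]; rfl)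
  have hJP0 : ∀ a, el (a, 0) ∈ P0 := by
    intro a
    refine ⟨⟨el (a, 0), hmem _⟩, ?_, rfl⟩
    refine Cfsg.Agent.Lib.Cores.pCore_le_sylow PH ?_
    have := hJmem a
    rw [hJ] at this
    obtain ⟨x, hx, hxe⟩ := this
    rwa [show (⟨el (a, 0), hmem _⟩ : H) = x from Subtype.ext hxe.symm]
  obtain ⟨S, hPS⟩ := hP0p.exists_le_sylow
  have hSP : (S : Subgroup G) = P0 := by
    apply le_antisymm _ hPS
    by_contra hnot
    have hlt : P0.subgroupOf (S : Subgroup G) < ⊤ :=
      lt_top_iff_ne_top.2 fun h => hnot (Subgroup.subgroupOf_eq_top.1 h)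
    haveI := S.isPGroup'.isNilpotent
    obtain ⟨s, hs1, hs2⟩ :=
      SetLike.exists_of_lt (Group.normalizerCondition_of_isNilpotent _ hlt)
    let a0 : A := (1, 0, 0)
    have hsH : (s : G) ∈ H := by
      refine fusion a0 weight_ne.1 _ (hP0H ?_)
      have := (Subgroup.mem_normalizer_iff.1 hs1 ⟨el (a0, 0), hPS (hJP0 a0)⟩).1
        (Subgroup.mem_subgroupOf.2 (hJP0 a0))
      exact Subgroup.mem_subgroupOf.1 this
    apply hs2
    refine Subgroup.mem_subgroupOf.2 ?_
    let Q : Subgroup H := (PH : Subgroup H) ⊔ Subgroup.zpowers ⟨(s : G), hsH⟩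
    have hQ : IsPGroup 3 Q := by
      have : Q.map H.subtype ≤ S := by
        rw [Subgroup.map_sup, MonoidHom.map_zpowers, sup_le_iff, Subgroup.zpowers_le]
        exact ⟨hPS, s.2⟩
      exact (S.isPGroup'.to_le this).of_equiv
        (Subgroup.equivMapOfInjective Q H.subtype H.subtype_injective).symm
    have hQeq := PH.is_maximal' hQ le_sup_left
    exact ⟨⟨(s : G), hsH⟩, hQeq ▸ Subgroup.mem_sup_right (Subgroup.mem_zpowers _), rfl⟩
  refine ⟨{
    el := el, el_mem := hmem, el_mul := hm, el_inj := hi, el_surj := hs, cent := cent, sc := sc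
    fusion := fusion
    pgrp := ?_
    sylow81 := ?_ }⟩
  · intro a ha P hP haP
    obtain ⟨Q, hPQ⟩ := hP.exists_le_sylow
    obtain ⟨g, hg⟩ := MulAction.exists_smul_eq G S Q
    have hQ : ∀ w ∈ (Q : Subgroup G), g⁻¹ * w * g ∈ P0 := by
      intro w hw
      rw [← hg, Sylow.coe_subgroup_smul, Subgroup.mem_pointwise_smul_iff_inv_smul_mem, hSP] at hw
      simpa [mul_assoc] using hw
    have hgH : g ∈ H := by
      have h := fusion a ha g⁻¹ (by rw [inv_inv]; exact hP0H (hQ _ (hPQ haP)))
      simpa using inv_mem h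
    intro p hp
    have h := mul_mem (mul_mem hgH (hP0H (hQ p (hPQ hp)))) (inv_mem hgH)
    have e : g * (g⁻¹ * p * g) * g⁻¹ = p := by group
    rwa [e] at h
  · intro T
    rw [← hP0card, ← hSP]
    exact Nat.card_congr (Sylow.equiv T S).toEquiv

end Cfsg.Agent.Lib.Fgs9.CubeSix
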