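import Cfsg.Agent.Lib.Fgs9.CubeSix.Transfer
import Cfsg.Agent.Lib.Fgs9.CubeSix.Search
import Cfsg.Agent.Lib.Fgs9.TriangleConstants

/-!
# A group with strongly closed `3³` in `3³ : S₄` equals that subgroup
-/

namespace Cfsg.Agent.Lib.Fgs9.CubeSix

open Cfsg.Agent.Lib.Fgs9.CubeFour (A)
open Cfsg.Agent.Lib.Characters.Basic Cfsg.Agent.Lib.Characters.Complete
open scoped ComplexConjugate

theorem stab_count : ∀ w : Fin 3,
    27 * ((Finset.univ.filter fun v : Fin 24 => act v (wtA w) = wtA w).card : ℤ) = centN w := by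
  decide +kernel

/-- The coefficients of the class sum combination. -/
def combo : Fin 3 → ℤ := ![1, -2, 1]

theorem triple_count : ∑ w : Fin 3, combo w *
    ((Finset.univ.filter fun v : Fin 24 =>
      ∃ v', act v' (wtA w + act v (wtA 2)) = wtA 0).card : ℤ) = -3 := by decide +kernel

theorem not_neg : ∀ v : Fin 24, act v (wtA 2) ≠ -wtA 0 := by decide +kernel

theorem inX_base : ∀ w : Fin 3, inX (wtA w, 0) := by decide +kernel

theorem val_eq (w : ℕ) (f : ℕ → ℤ) :
    Search.val w f = ∑ k : Fin 10, Search.expN w k.val * f k.val := by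
  simp only [Search.val, List.range_succ, List.range_zero, List.map_append, List.map_cons,
    List.map_nil, List.nil_append, List.sum_append, List.sum_cons, List.sum_nil,
    Fin.sum_univ_succ, Fin.sum_univ_zero, Fin.val_zero, Fin.val_succ, add_zero]
  ring

universe u
variable {G : Type u} [Group G] [Fintype G] {H : Subgroup G}

set_option linter.unusedSectionVars false

theorem card_cent_base (F : Frame G H) (w : Fin 3) :
    (Nat.card (Subgroup.centralizer ({F.el (wtA w, 0)} : Set G)) : ℤ) = centN w := by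
  classical
  rw [← stab_count w]
  have e : Nat.card (Subgroup.centralizer ({F.el (wtA w, 0)} : Set G)) =
      Nat.card {q : A × Fin 24 // act q.2 (wtA w) = wtA w} := by
    refine (Nat.card_congr (_root_.Equiv.ofBijective
      (fun q : {q : A × Fin 24 // act q.2 (wtA w) = wtA w} =>
        (⟨F.el q.1, Subgroup.mem_centralizer_singleton_iff.2 ?_⟩ :
          Subgroup.centralizer ({F.el (wtA w, 0)} : Set G))) ⟨?_, ?_⟩)).symm
    · have h := conj_el F.el_mul F.el_inj q.1 (wtA w)
      rw [q.2, mul_inv_eq_iff_eq_mul] at h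
      exact h
    · intro q q' h
      exact Subtype.ext (F.el_inj (congrArg Subtype.val h))
    · rintro ⟨x, hx⟩
      obtain ⟨q, rfl⟩ := F.el_surj x (F.cent _ (wtA_ne w) hx)
      refine ⟨⟨q, ?_⟩, rfl⟩
      have h : F.el q * F.el (wtA w, 0) * (F.el q)⁻¹ = F.el (wtA w, 0) := by
        rw [Subgroup.mem_centralizer_singleton_iff.1 hx, mul_inv_cancel_right]
      rw [conj_el F.el_mul F.el_inj] at h
      exact (Prod.ext_iff.1 (F.el_inj h)).1
  rw [e, Nat.card_eq_fintype_card, Fintype.card_subtype]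
  have : (Finset.univ.filter fun q : A × Fin 24 => act q.2 (wtA w) = wtA w) =
      (Finset.univ : Finset A) ×ˢ Finset.univ.filter fun v => act v (wtA w) = wtA w := by
    ext q; simp
  rw [this, Finset.card_product, Nat.cast_mul]
  rfl

/-- The solutions of the triangle equation lie in `H`. -/
theorem card_triple (F : Frame G H) (w : Fin 3) :
    Nat.card {a : G // IsConj (F.el (wtA w, 0) * (a * F.el (wtA 2, 0) * a⁻¹))
      (F.el (wtA 0, 0))} =
      27 * (Finset.univ.filter fun v : Fin 24 =>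
        ∃ v', act v' (wtA w + act v (wtA 2)) = wtA 0).card := by
  classical
  have hmem : ∀ a : G, IsConj (F.el (wtA w, 0) * (a * F.el (wtA 2, 0) * a⁻¹)) (F.el (wtA 0, 0)) →
      a ∈ H := by
    intro a ha
    obtain ⟨g, hg⟩ := isConj_iff.1 ha
    let J := baseJ (G := G) F.el_mul
    have h := TriangleConstants.mem_of_triangle H J (x := g * F.el (wtA w, 0) * g⁻¹)
      (y := (g * a) * F.el (wtA 2, 0) * (g * a)⁻¹) (z := F.el (wtA 0, 0))
      (by rw [conj_pow, el_pow_three F.el_mul]; group)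
      (by rw [conj_pow, el_pow_three F.el_mul]; group)
      (el_pow_three F.el_mul _) (by rw [← hg]; group) ⟨_, rfl⟩
      (F.pgrp _ (wtA_ne 0))
      (by
        intro x hx hc
        obtain ⟨c, rfl⟩ := isConj_iff.1 hc
        obtain ⟨b, hb⟩ := F.sc (wtA 2) (c * (g * a)) (by
          convert hx using 1
          group)
        exact ⟨b, hb.symm.trans (by group)⟩)
      (by
        rintro _ ⟨b, rfl⟩ hne
        refine F.cent b ?_
        rintro rfl
        exact hne (el_zero F.el_mul))
      (by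
        intro hc
        obtain ⟨c, hc⟩ := isConj_iff.1 hc
        rw [← el_neg F.el_mul] at hc
        have hc' : (c * (g * a)) * F.el (wtA 2, 0) * (c * (g * a))⁻¹ = F.el (-wtA 0, 0) := by
          rw [← hc]; group
        have hH := F.fusion _ (wtA_ne 2) _ (hc' ▸ F.el_mem _)
        obtain ⟨r, hr⟩ := F.el_surj _ hH
        rw [hr, conj_el F.el_mul F.el_inj] at hc'
        exact not_neg r.2 (Prod.ext_iff.1 (F.el_inj hc')).1)
    have h1 := F.fusion _ (wtA_ne w) g h.1
    have h2 := F.fusion _ (wtA_ne 2) (g * a) h.2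
    have := mul_mem (inv_mem h1) h2
    rwa [inv_mul_cancel_left] at this
  have hkey : ∀ q : A × Fin 24,
      IsConj (F.el (wtA w, 0) * (F.el q * F.el (wtA 2, 0) * (F.el q)⁻¹)) (F.el (wtA 0, 0)) ↔
        ∃ v', act v' (wtA w + act q.2 (wtA 2)) = wtA 0 := by
    intro q
    rw [conj_el F.el_mul F.el_inj, F.el_mul, mul_base]
    constructor
    · intro h
      obtain ⟨g, hg⟩ := isConj_iff.1 h
      have hne : wtA w + act q.2 (wtA 2) ≠ 0 := by
        intro e
        rw [e, el_zero F.el_mul] at hg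
        exact el_ne_one F (wtA_ne 0) (by rw [← hg]; group)
      obtain ⟨r, hr⟩ := F.el_surj _ (F.fusion _ hne g (hg ▸ F.el_mem _))
      rw [hr, conj_el F.el_mul F.el_inj] at hg
      exact ⟨r.2, (Prod.ext_iff.1 (F.el_inj hg)).1⟩
    · rintro ⟨v, hv⟩
      exact isConj_iff.2 ⟨F.el (0, v), by rw [conj_el F.el_mul F.el_inj, hv]⟩
  have e : Nat.card {a : G // IsConj (F.el (wtA w, 0) * (a * F.el (wtA 2, 0) * a⁻¹))
      (F.el (wtA 0, 0))} =
      Nat.card {q : A × Fin 24 // ∃ v', act v' (wtA w + act q.2 (wtA 2)) = wtA 0} := by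
    refine (Nat.card_congr (_root_.Equiv.ofBijective
      (fun q : {q : A × Fin 24 // ∃ v', act v' (wtA w + act q.2 (wtA 2)) = wtA 0} =>
        (⟨F.el q.1, (hkey q.1).2 q.2⟩ : {a : G // IsConj
          (F.el (wtA w, 0) * (a * F.el (wtA 2, 0) * a⁻¹)) (F.el (wtA 0, 0))})) ⟨?_, ?_⟩)).symm
    · intro q q' h
      exact Subtype.ext (F.el_inj (congrArg Subtype.val h))
    · rintro ⟨a, ha⟩
      obtain ⟨q, rfl⟩ := F.el_surj a (hmem a ha)
      exact ⟨⟨q, (hkey q).1 ha⟩, rfl⟩
  rw [e, Nat.card_eq_fintype_card, Fintype.card_subtype]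
  have : (Finset.univ.filter fun q : A × Fin 24 =>
      ∃ v', act v' (wtA w + act q.2 (wtA 2)) = wtA 0) =
      (Finset.univ : Finset A) ×ˢ Finset.univ.filter fun v : Fin 24 =>
        ∃ v', act v' (wtA w + act v (wtA 2)) = wtA 0 := by
    ext q; simp
  rw [this, Finset.card_product]
  rfl

/-- The main result. -/
theorem eq_top_of_frame (F : Frame G H) : H = ⊤ := by
  classical
  letI := Fintype.ofFinite (Cfsg.IrrCharacter G)
  choose c hc using fun (χ : Cfsg.IrrCharacter G) (k : Fin 10) =>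
    Isometry.Inner.classInner_gen_int (bigT_gen F k) (Isometry.Inner.gen_of_irr χ.2)
  choose d hd hd1 using fun χ : Cfsg.IrrCharacter G => exists_degree_pos χ
  have hT : ∀ k g, bigT F k g = ∑ χ, (c χ k : ℂ) * (χ : G → ℂ) g := by
    intro k g
    conv_lhs => rw [classFunction_eq_sum (bigT_class F k)]
    simp only [Finset.sum_apply, Pi.smul_apply, smul_eq_mul, hc]
  have hgram : ∀ k l : Fin 10, ∑ χ, c χ k * c χ l = Search.gramN k.val l.val := by
    intro k l
    have h := bigT_inner F k l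
    rw [classFunction_eq_sum (bigT_class F l)] at h
    simp only [classInner_sum_right, Induced.Basic.classInner_smul_right, hc, map_intCast] at h
    have h' : ∑ χ, c χ l * c χ k = Search.gramN k.val l.val := by exact_mod_cast h
    rw [← h']
    exact Finset.sum_congr rfl fun χ _ => mul_comm _ _
  have htriv : ∀ k : Fin 10, c (oneChar G) k = Search.trivN k.val := by
    intro k
    have h := (hc (oneChar G) k).symm.trans
      (show Cfsg.classInner (bigT F k) (oneChar G : G → ℂ) = _ from bigT_triv F k)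
    exact_mod_cast h
  have hdeg : ∀ k : Fin 10, ∑ χ, (d χ : ℤ) * c χ k = 0 := by
    intro k
    have h := hT k 1
    rw [bigT_one F k] at h
    simp only [hd1] at h
    have h' : ∑ χ, c χ k * (d χ : ℤ) = 0 := by exact_mod_cast h.symm
    rw [← h']
    exact Finset.sum_congr rfl fun χ _ => mul_comm _ _
  -- the values on the three weights
  let P : Fin 3 → Cfsg.IrrCharacter G → ℤ := fun w χ =>
    ∑ k : Fin 10, Search.expN w.val k.val * c χ k
  have hval : ∀ (w : Fin 3) (χ : Cfsg.IrrCharacter G),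
      (χ : G → ℂ) (F.el (wtA w, 0)) = (P w χ : ℂ) := by
    intro w
    have hPT : ∑ χ, (P w χ : ℂ) * (χ : G → ℂ) (F.el (wtA w, 0)) = (centN w : ℂ) := by
      simp only [P, Int.cast_sum, Int.cast_mul, Finset.sum_mul]
      rw [Finset.sum_comm]
      simp only [mul_assoc, ← Finset.mul_sum, ← hT, bigT_X F _ (inX_base w)]
      exact exp_phi w
    have hPT' : ∑ χ, (P w χ : ℂ) * conj ((χ : G → ℂ) (F.el (wtA w, 0))) = (centN w : ℂ) := by
      have h := congrArg (starRingEnd ℂ) hPT
      simpa only [map_sum, map_mul, map_intCast] using h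
    have hPP : ∑ χ, (P w χ : ℂ) * (P w χ : ℂ) = (centN w : ℂ) := by
      have : ∑ χ, P w χ * P w χ = centN w := by
        rw [← exp_gram w]
        simp only [P, Finset.sum_mul_sum]
        rw [Finset.sum_comm]
        refine Finset.sum_congr rfl fun k _ => ?_
        rw [Finset.sum_comm]
        refine Finset.sum_congr rfl fun l _ => ?_
        rw [← hgram k l, Finset.mul_sum]
        exact Finset.sum_congr rfl fun χ _ => by ring
      exact_mod_cast this
    have hXX : ∑ χ : Cfsg.IrrCharacter G, (χ : G → ℂ) (F.el (wtA w, 0)) * conj ((χ : G → ℂ) (F.el (wtA w, 0))) =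
        (centN w : ℂ) := by
      rw [sum_irr_mul_conj, if_pos (IsConj.refl _)]
      exact_mod_cast card_cent_base F w
    have h0 : ∑ χ : Cfsg.IrrCharacter G, ((χ : G → ℂ) (F.el (wtA w, 0)) - (P w χ : ℂ)) *
        conj ((χ : G → ℂ) (F.el (wtA w, 0)) - (P w χ : ℂ)) = 0 := by
      have e : ∀ χ : Cfsg.IrrCharacter G, ((χ : G → ℂ) (F.el (wtA w, 0)) - (P w χ : ℂ)) *
          conj ((χ : G → ℂ) (F.el (wtA w, 0)) - (P w χ : ℂ)) =
          (χ : G → ℂ) (F.el (wtA w, 0)) * conj ((χ : G → ℂ) (F.el (wtA w, 0))) -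
            (P w χ : ℂ) * (χ : G → ℂ) (F.el (wtA w, 0)) -
            (P w χ : ℂ) * conj ((χ : G → ℂ) (F.el (wtA w, 0))) +
            (P w χ : ℂ) * (P w χ : ℂ) := by
        intro χ
        rw [map_sub, map_intCast]
        ring
      rw [Finset.sum_congr rfl fun χ _ => e χ, Finset.sum_add_distrib, Finset.sum_sub_distrib,
        Finset.sum_sub_distrib, hPT, hPT', hPP, hXX]
      ring
    simp only [Complex.mul_conj, ← Complex.ofReal_sum, Complex.ofReal_eq_zero] at h0
    intro χ
    have := (Finset.sum_eq_zero_iff_of_nonneg fun i _ => Complex.normSq_nonneg _).1 h0 χ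
      (Finset.mem_univ _)
    exact sub_eq_zero.1 (Complex.normSq_eq_zero.1 this)
  -- the search
  let V : {χ : Cfsg.IrrCharacter G // χ ≠ oneChar G} → ℕ → ℤ := fun χ j =>
    if h : j < 10 then c χ.1 ⟨j, h⟩ else 0
  have hsplit : ∀ {M : Type} [AddCommGroup M] (f : Cfsg.IrrCharacter G → M),
      ∑ χ : {χ : Cfsg.IrrCharacter G // χ ≠ oneChar G}, f χ.1 = ∑ χ, f χ - f (oneChar G) := by
    intro M _ f
    rw [← Finset.sum_erase_eq_sub (Finset.mem_univ _)]
    exact (Finset.sum_subtype _ (fun x => by simp) f).symm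
  obtain ⟨D, ε, hD, hε, hS, hsq⟩ := Search.exceptional V (fun χ => d χ.1) (fun χ => hd χ.1)
    (by
      intro j hj k hk
      simp only [V, dif_pos hj, dif_pos hk]
      rw [hsplit fun χ => c χ ⟨j, hj⟩ * c χ ⟨k, hk⟩, hgram, htriv, htriv])
    (by
      intro k hk
      have hk' : k < 10 := by omega
      simp only [V, dif_pos hk']
      rw [hsplit fun χ => (d χ : ℤ) * c χ ⟨k, hk'⟩, hdeg, htriv]
      have : d (oneChar G) = 1 := by
        have h := hd1 (oneChar G)
        rw [oneChar_apply] at h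
        exact_mod_cast h.symm
      rw [this]
      simp)
  have hPV : ∀ (w : Fin 3) (χ : {χ : Cfsg.IrrCharacter G // χ ≠ oneChar G}),
      Search.val w.val (V χ) = P w χ.1 := by
    intro w χ
    rw [val_eq]
    exact Finset.sum_congr rfl fun k _ => by simp [V, k.isLt]
  let term : Cfsg.IrrCharacter G → ℂ := fun χ =>
    ((χ : G → ℂ) (F.el (wtA 0, 0)) - 2 * (χ : G → ℂ) (F.el (wtA 1, 0)) +
      (χ : G → ℂ) (F.el (wtA 2, 0))) * (χ : G → ℂ) (F.el (wtA 2, 0)) *
      conj ((χ : G → ℂ) (F.el (wtA 0, 0))) / (χ : G → ℂ) 1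
  have hterm : ∀ χ : {χ : Cfsg.IrrCharacter G // χ ≠ oneChar G},
      term χ.1 = (Search.kap (V χ) : ℂ) / (d χ.1 : ℂ) := by
    intro χ
    simp only [term, hval, map_intCast, hd1, Search.kap]
    have v0 : Search.val 0 (V χ) = P 0 χ.1 := hPV 0 χ
    have v1 : Search.val 1 (V χ) = P 1 χ.1 := hPV 1 χ
    have v2 : Search.val 2 (V χ) = P 2 χ.1 := hPV 2 χ
    rw [v0, v1, v2]
    push_cast
    ring
  have hone : term (oneChar G) = 0 := by
    simp only [term, oneChar_apply]
    norm_num
  have hsum : ∑ χ, term χ = (ε : ℂ) * 108 / (D : ℂ) := by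
    rw [← hS, ← Finset.sum_congr rfl fun χ _ => hterm χ, hsplit term, hone, sub_zero]
  have hLHS : (Nat.card G : ℂ) * ∑ χ, term χ = -8748 := by
    have e : ∀ χ : Cfsg.IrrCharacter G, term χ = ∑ w : Fin 3, (combo w : ℂ) *
        ((χ : G → ℂ) (F.el (wtA w, 0)) * (χ : G → ℂ) (F.el (wtA 2, 0)) *
          conj ((χ : G → ℂ) (F.el (wtA 0, 0))) / (χ : G → ℂ) 1) := by
      intro χ
      simp only [term, Fin.sum_univ_three, combo, Matrix.cons_val_zero, Matrix.cons_val_one,
        Matrix.cons_val]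
      push_cast
      ring
    rw [Finset.sum_congr rfl fun χ _ => e χ, Finset.sum_comm, Finset.mul_sum]
    have hw : ∀ w : Fin 3, (Nat.card G : ℂ) * ∑ χ : Cfsg.IrrCharacter G, (combo w : ℂ) *
        ((χ : G → ℂ) (F.el (wtA w, 0)) * (χ : G → ℂ) (F.el (wtA 2, 0)) *
          conj ((χ : G → ℂ) (F.el (wtA 0, 0))) / (χ : G → ℂ) 1) =
        ((2916 * (combo w * ((Finset.univ.filter fun v : Fin 24 =>
          ∃ v', act v' (wtA w + act v (wtA 2)) = wtA 0).card : ℤ)) : ℤ) : ℂ) := by
      intro w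
      rw [← Finset.mul_sum, mul_left_comm, TriangleConstants.card_mul_sum, card_triple]
      have h108 : ((Nat.card (Subgroup.centralizer ({F.el (wtA 0, 0)} : Set G)) : ℤ) : ℂ) =
          ((108 : ℤ) : ℂ) := by rw [card_cent_base F 0]; rfl
      push_cast at h108 ⊢
      rw [h108]
      ring
    rw [Finset.sum_congr rfl fun w _ => hw w, ← Int.cast_sum, ← Finset.mul_sum, triple_count]
    norm_num
  rw [hsum] at hLHS
  have hDne : (D : ℂ) ≠ 0 := Nat.cast_ne_zero.2 hD.ne'
  rw [← mul_div_assoc, div_eq_iff hDne] at hLHS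
  have hint : (Nat.card G : ℤ) * (ε * 108) = -8748 * (D : ℤ) := by exact_mod_cast hLHS
  have hGpos : 0 < Nat.card G := Nat.card_pos
  have hG81 : Nat.card G = 81 * D := by
    rcases hε with e | e <;> rw [e] at hint <;> omega
  have hbound : 3 * (D * D) ≤ Nat.card G := by
    have h := finsum_degree_sq (G := G)
    rw [finsum_eq_sum_of_fintype] at h
    simp only [hd1] at h
    have h' : ∑ χ, (d χ) ^ 2 = Nat.card G := by exact_mod_cast h
    refine hsq.trans (le_of_le_of_eq ?_ h')
    calc ∑ χ : {χ : Cfsg.IrrCharacter G // χ ≠ oneChar G}, d χ.1 * d χ.1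
        = ∑ χ ∈ Finset.univ.erase (oneChar G), d χ * d χ :=
          (Finset.sum_subtype _ (fun x => by simp) fun χ => d χ * d χ).symm
      _ ≤ ∑ χ, d χ * d χ := Finset.sum_le_univ_sum_of_nonneg fun _ => Nat.zero_le _
      _ = ∑ χ, (d χ) ^ 2 := Finset.sum_congr rfl fun χ _ => (sq _).symm
  have hD27 : D ≤ 27 := by nlinarith
  haveI : Fact (Nat.Prime 3) := ⟨Nat.prime_three⟩
  have hcard := card_H F
  have hidx := H.card_mul_index
  rw [hcard] at hidx
  have hle : H.index ≤ 3 := by omega
  have hpos : H.index ≠ 0 := Subgroup.index_ne_zero_of_finite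
  have hn3 : H.index ≠ 3 := by
    intro h3
    obtain ⟨S⟩ : Nonempty (Sylow 3 G) := inferInstance
    have h81 := F.sylow81 S
    rw [S.card_eq_multiplicity, ← hidx, h3] at h81
    have h5 : (648 * 3 : ℕ).factorization 3 = 5 := by
      rw [show (648 * 3 : ℕ) = 3 ^ 5 * 8 from rfl, Nat.factorization_mul (by norm_num) (by norm_num),
        Finsupp.add_apply, Nat.Prime.factorization_pow Nat.prime_three, Finsupp.single_eq_same,
        Nat.factorization_eq_zero_of_not_dvd (by norm_num)]
    rw [h5] at h81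
    norm_num at h81
  rcases (by omega : H.index = 1 ∨ H.index = 2) with h | h
  · exact Subgroup.index_eq_one.1 h
  · have hN : H.Normal := Subgroup.normal_of_index_eq_two h
    rw [eq_top_iff]
    intro g _
    exact F.fusion (wtA 0) (wtA_ne 0) g (hN.conj_mem _ (F.el_mem _) g)

end Cfsg.Agent.Lib.Fgs9.CubeSix
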