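import Cfsg.Agent.Lib.Fgs9.CubeFour.Model
import Mathlib.Algebra.BigOperators.Fin
import Mathlib.Tactic.Ring

/-!
# The group `3³ : S₄` inside `Sym(9)`

Coordinates: `elt (a, w) = emb a * ww w`, where `w` runs over the signed permutations of the three
coordinates fixing the product of the signs times the sign of the permutation.
-/

namespace Cfsg.Agent.Lib.Fgs9.CubeSix

open Equiv
open Cfsg.Agent.Lib.Fgs9.CubeFour (A dot emb emb_add emb_eq_one emb_injective)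

/-- The generator permuting the three coordinates cyclically. -/
def rotP : Perm (Fin 9) :=
  swap (0 : Fin 9) 3 * swap 3 6 * (swap (1 : Fin 9) 4 * swap 4 7) * (swap (2 : Fin 9) 5 * swap 5 8)

/-- An involution inverting `rotP`. -/
def invP : Perm (Fin 9) :=
  swap (0 : Fin 9) 3 * swap 1 5 * swap 2 4 * swap 7 8

/-- The four sign changes fixing the origin of each block. -/
def sgnP : Fin 4 → Perm (Fin 9) :=
  ![1, swap (1 : Fin 9) 2 * swap 4 5, swap (1 : Fin 9) 2 * swap 7 8, swap (4 : Fin 9) 5 * swap 7 8]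

/-- The complement. -/
def ww (w : Fin 24) : Perm (Fin 9) :=
  sgnP ⟨w.val % 4, Nat.mod_lt _ (by decide)⟩ * (rotP ^ (w.val / 4 % 3) * invP ^ (w.val / 12))

/-- Images of the basis vectors. -/
def actTbl : Fin 24 → Fin 3 → A :=
  ![
    ![(1, 0, 0), (0, 1, 0), (0, 0, 1)],
    ![(2, 0, 0), (0, 2, 0), (0, 0, 1)],
    ![(2, 0, 0), (0, 1, 0), (0, 0, 2)],
    ![(1, 0, 0), (0, 2, 0), (0, 0, 2)],
    ![(0, 1, 0), (0, 0, 1), (1, 0, 0)],
    ![(0, 2, 0), (0, 0, 1), (2, 0, 0)],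
    ![(0, 1, 0), (0, 0, 2), (2, 0, 0)],
    ![(0, 2, 0), (0, 0, 2), (1, 0, 0)],
    ![(0, 0, 1), (1, 0, 0), (0, 1, 0)],
    ![(0, 0, 1), (2, 0, 0), (0, 2, 0)],
    ![(0, 0, 2), (2, 0, 0), (0, 1, 0)],
    ![(0, 0, 2), (1, 0, 0), (0, 2, 0)],
    ![(0, 2, 0), (2, 0, 0), (0, 0, 2)],
    ![(0, 1, 0), (1, 0, 0), (0, 0, 2)],
    ![(0, 2, 0), (1, 0, 0), (0, 0, 1)],
    ![(0, 1, 0), (2, 0, 0), (0, 0, 1)],
    ![(0, 0, 2), (0, 2, 0), (2, 0, 0)],
    ![(0, 0, 2), (0, 1, 0), (1, 0, 0)],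
    ![(0, 0, 1), (0, 2, 0), (1, 0, 0)],
    ![(0, 0, 1), (0, 1, 0), (2, 0, 0)],
    ![(2, 0, 0), (0, 0, 2), (0, 2, 0)],
    ![(1, 0, 0), (0, 0, 2), (0, 1, 0)],
    ![(1, 0, 0), (0, 0, 1), (0, 2, 0)],
    ![(2, 0, 0), (0, 0, 1), (0, 1, 0)]]

/-- The multiplication table of `S₄`. -/
def mulW : Fin 24 → Fin 24 → Fin 24 :=
  ![
    ![0, 1, 2, 3, 4, 5, 6, 7, 8, 9, 10, 11, 12, 13, 14, 15, 16, 17, 18, 19, 20, 21, 22, 23],
    ![1, 0, 3, 2, 5, 4, 7, 6, 9, 8, 11, 10, 13, 12, 15, 14, 17, 16, 19, 18, 21, 20, 23, 22],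
    ![2, 3, 0, 1, 6, 7, 4, 5, 10, 11, 8, 9, 14, 15, 12, 13, 18, 19, 16, 17, 22, 23, 20, 21],
    ![3, 2, 1, 0, 7, 6, 5, 4, 11, 10, 9, 8, 15, 14, 13, 12, 19, 18, 17, 16, 23, 22, 21, 20],
    ![4, 7, 5, 6, 8, 11, 9, 10, 0, 3, 1, 2, 16, 19, 17, 18, 20, 23, 21, 22, 12, 15, 13, 14],
    ![5, 6, 4, 7, 9, 10, 8, 11, 1, 2, 0, 3, 17, 18, 16, 19, 21, 22, 20, 23, 13, 14, 12, 15],
    ![6, 5, 7, 4, 10, 9, 11, 8, 2, 1, 3, 0, 18, 17, 19, 16, 22, 21, 23, 20, 14, 13, 15, 12],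
    ![7, 4, 6, 5, 11, 8, 10, 9, 3, 0, 2, 1, 19, 16, 18, 17, 23, 20, 22, 21, 15, 12, 14, 13],
    ![8, 10, 11, 9, 0, 2, 3, 1, 4, 6, 7, 5, 20, 22, 23, 21, 12, 14, 15, 13, 16, 18, 19, 17],
    ![9, 11, 10, 8, 1, 3, 2, 0, 5, 7, 6, 4, 21, 23, 22, 20, 13, 15, 14, 12, 17, 19, 18, 16],
    ![10, 8, 9, 11, 2, 0, 1, 3, 6, 4, 5, 7, 22, 20, 21, 23, 14, 12, 13, 15, 18, 16, 17, 19],
    ![11, 9, 8, 10, 3, 1, 0, 2, 7, 5, 4, 6, 23, 21, 20, 22, 15, 13, 12, 14, 19, 17, 16, 18],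
    ![12, 13, 15, 14, 20, 21, 23, 22, 16, 17, 19, 18, 0, 1, 3, 2, 8, 9, 11, 10, 4, 5, 7, 6],
    ![13, 12, 14, 15, 21, 20, 22, 23, 17, 16, 18, 19, 1, 0, 2, 3, 9, 8, 10, 11, 5, 4, 6, 7],
    ![14, 15, 13, 12, 22, 23, 21, 20, 18, 19, 17, 16, 2, 3, 1, 0, 10, 11, 9, 8, 6, 7, 5, 4],
    ![15, 14, 12, 13, 23, 22, 20, 21, 19, 18, 16, 17, 3, 2, 0, 1, 11, 10, 8, 9, 7, 6, 4, 5],
    ![16, 19, 18, 17, 12, 15, 14, 13, 20, 23, 22, 21, 4, 7, 6, 5, 0, 3, 2, 1, 8, 11, 10, 9],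
    ![17, 18, 19, 16, 13, 14, 15, 12, 21, 22, 23, 20, 5, 6, 7, 4, 1, 2, 3, 0, 9, 10, 11, 8],
    ![18, 17, 16, 19, 14, 13, 12, 15, 22, 21, 20, 23, 6, 5, 4, 7, 2, 1, 0, 3, 10, 9, 8, 11],
    ![19, 16, 17, 18, 15, 12, 13, 14, 23, 20, 21, 22, 7, 4, 5, 6, 3, 0, 1, 2, 11, 8, 9, 10],
    ![20, 22, 21, 23, 16, 18, 17, 19, 12, 14, 13, 15, 8, 10, 9, 11, 4, 6, 5, 7, 0, 2, 1, 3],
    ![21, 23, 20, 22, 17, 19, 16, 18, 13, 15, 12, 14, 9, 11, 8, 10, 5, 7, 4, 6, 1, 3, 0, 2],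
    ![22, 20, 23, 21, 18, 16, 19, 17, 14, 12, 15, 13, 10, 8, 11, 9, 6, 4, 7, 5, 2, 0, 3, 1],
    ![23, 21, 22, 20, 19, 17, 18, 16, 15, 13, 14, 12, 11, 9, 10, 8, 7, 5, 6, 4, 3, 1, 2, 0]]

/-- The inversion table of `S₄`. -/
def invW : Fin 24 → Fin 24 :=
  ![0, 1, 2, 3, 8, 10, 11, 9, 4, 7, 5, 6, 12, 13, 15, 14, 16, 19, 18, 17, 20, 22, 21, 23]

/-- Element orders in `S₄`. -/
def ordW : Fin 24 → ℕ :=
  ![1, 2, 2, 2, 3, 3, 3, 3, 3, 3, 3, 3, 2, 2, 4, 4, 2, 4, 2, 4, 2, 4, 4, 2]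

/-- The action of the complement on `F₃³`. -/
def act (w : Fin 24) (a : A) : A :=
  (a.1 * (actTbl w 0).1 + a.2.1 * (actTbl w 1).1 + a.2.2 * (actTbl w 2).1,
    a.1 * (actTbl w 0).2.1 + a.2.1 * (actTbl w 1).2.1 + a.2.2 * (actTbl w 2).2.1,
    a.1 * (actTbl w 0).2.2 + a.2.1 * (actTbl w 1).2.2 + a.2.2 * (actTbl w 2).2.2)

/-- The elements of the model. -/
def elt (p : A × Fin 24) : Perm (Fin 9) := emb p.1 * ww p.2

/-- The product in the model. -/
def mulC (p q : A × Fin 24) : A × Fin 24 := (p.1 + act p.2 q.1, mulW p.2 q.2)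

/-- The inverse in the model. -/
def invC (p : A × Fin 24) : A × Fin 24 := (-(act (invW p.2) p.1), invW p.2)

theorem ww_emb : ∀ w : Fin 24, ∀ a : A, ww w * emb a = emb (act w a) * ww w := by decide +kernel

theorem ww_mul : ∀ v w : Fin 24, ww v * ww w = ww (mulW v w) := by decide +kernel

theorem ww_zero : ww 0 = 1 := by decide +kernel

theorem elt_mul (p q : A × Fin 24) : elt p * elt q = elt (mulC p q) := by
  simp only [elt, mulC]
  rw [emb_add, mul_assoc, ← mul_assoc (ww p.2), ww_emb, mul_assoc (emb (act p.2 q.1)), ww_mul,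
    ← mul_assoc]

theorem mulW_inv_right : ∀ v : Fin 24, mulW v (invW v) = 0 := by decide +kernel

theorem mulW_inv_left : ∀ v : Fin 24, mulW (invW v) v = 0 := by decide +kernel

theorem mulW_zero : ∀ v : Fin 24, mulW v 0 = v ∧ mulW 0 v = v := by decide +kernel

theorem mulW_assoc : ∀ u v w : Fin 24, mulW (mulW u v) w = mulW u (mulW v w) := by decide +kernel

theorem act_zero_left : ∀ a : A, act 0 a = a := by decide +kernel

theorem act_mul : ∀ v w : Fin 24, ∀ a : A, act (mulW v w) a = act v (act w a) := by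
  decide +kernel

theorem act_zero (w : Fin 24) : act w 0 = 0 := by simp [act]

theorem act_add (w : Fin 24) (a b : A) : act w (a + b) = act w a + act w b := by
  simp only [act, Prod.fst_add, Prod.snd_add, Prod.mk_add_mk]
  refine Prod.ext ?_ (Prod.ext ?_ ?_) <;> simp only <;> ring

theorem act_neg (w : Fin 24) (a : A) : act w (-a) = -act w a := by
  simp only [act, Prod.fst_neg, Prod.snd_neg, Prod.neg_mk]
  refine Prod.ext ?_ (Prod.ext ?_ ?_) <;> simp only <;> ring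

theorem elt_one : elt ((0, 0, 0), 0) = 1 := by decide +kernel

theorem elt_eq_one : ∀ p : A × Fin 24, elt p = 1 → p = ((0, 0, 0), 0) := by decide +kernel

theorem mulC_invC (p : A × Fin 24) : mulC p (invC p) = ((0, 0, 0), 0) := by
  simp only [mulC, invC]
  rw [act_neg, ← act_mul, mulW_inv_right, act_zero_left, add_neg_cancel]
  rfl

theorem invC_mulC (p : A × Fin 24) : mulC (invC p) p = ((0, 0, 0), 0) := by
  simp only [mulC, invC]
  rw [mulW_inv_left, neg_add_cancel]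
  rfl

theorem mulC_assoc (p q r : A × Fin 24) : mulC (mulC p q) r = mulC p (mulC q r) := by
  simp only [mulC, act_add, act_mul, mulW_assoc, add_assoc]

theorem elt_injective : Function.Injective elt := by
  intro p q h
  have h1 : elt (mulC (invC q) p) = 1 := by rw [← elt_mul, h, elt_mul, invC_mulC, elt_one]
  have h2 := congrArg (mulC q) (elt_eq_one _ h1)
  rw [← mulC_assoc, mulC_invC] at h2
  simp only [mulC] at h2
  rw [act_zero_left, (mulW_zero _).2, show ((0, 0, 0) : A) = 0 from rfl, zero_add, act_zero,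
    add_zero, (mulW_zero _).1] at h2
  exact h2

/-- The generators appearing in the statement. -/
abbrev gens : Set (Perm (Fin 9)) :=
  {swap (0 : Fin 9) 1 * swap 1 2,
    swap (0 : Fin 9) 3 * swap 3 6 * (swap (1 : Fin 9) 4 * swap 4 7) * (swap (2 : Fin 9) 5 * swap 5 8),
    swap (0 : Fin 9) 1 * swap 3 4,
    swap (0 : Fin 9) 3 * swap 1 4 * swap 2 5 * swap 6 7}

theorem gen_one : elt ((1, 0, 0), 0) = swap (0 : Fin 9) 1 * swap 1 2 := by decide +kernel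

theorem gen_two : elt ((0, 0, 0), 4) =
    swap (0 : Fin 9) 3 * swap 3 6 * (swap (1 : Fin 9) 4 * swap 4 7) *
      (swap (2 : Fin 9) 5 * swap 5 8) := by decide +kernel

theorem gen_three : elt ((1, 1, 0), 1) = swap (0 : Fin 9) 1 * swap 3 4 := by decide +kernel

theorem gen_four : elt ((0, 0, 1), 13) =
    swap (0 : Fin 9) 3 * swap 1 4 * swap 2 5 * swap 6 7 := by decide +kernel

/-- The model subgroup. -/
def model : Subgroup (Perm (Fin 9)) where
  carrier := Set.range elt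
  mul_mem' := by
    rintro _ _ ⟨p, rfl⟩ ⟨q, rfl⟩
    exact ⟨_, (elt_mul p q).symm⟩
  one_mem' := ⟨_, elt_one⟩
  inv_mem' := by
    rintro _ ⟨p, rfl⟩
    refine ⟨invC p, ?_⟩
    rw [eq_inv_iff_mul_eq_one, elt_mul, invC_mulC, elt_one]

theorem closure_gens : Subgroup.closure gens = model := by
  apply le_antisymm
  · rw [Subgroup.closure_le]
    rintro x (rfl | rfl | rfl | rfl)
    · exact ⟨_, gen_one⟩
    · exact ⟨_, gen_two⟩
    · exact ⟨_, gen_three⟩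
    · exact ⟨_, gen_four⟩
  · set K := Subgroup.closure gens with hK
    have m : ∀ p : A × Fin 24, elt p ∈ gens → elt p ∈ K := fun p h => Subgroup.subset_closure h
    have h1 : elt ((1, 0, 0), 0) ∈ K := m _ (by rw [gen_one]; simp [gens])
    have h2 : elt ((0, 0, 0), 4) ∈ K := m _ (by rw [gen_two]; simp [gens])
    have h3 : elt ((1, 1, 0), 1) ∈ K := m _ (by rw [gen_three]; simp [gens])
    have h4 : elt ((0, 0, 1), 13) ∈ K := m _ (by rw [gen_four]; simp [gens])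
    have e2 : swap (3 : Fin 9) 4 * swap 4 5 = elt ((0, 0, 0), 4) * elt ((1, 0, 0), 0) *
        (elt ((0, 0, 0), 4))⁻¹ := by decide +kernel
    have e3 : swap (6 : Fin 9) 7 * swap 7 8 = elt ((0, 0, 0), 4) * elt ((0, 0, 0), 4) *
        elt ((1, 0, 0), 0) * (elt ((0, 0, 0), 4) * elt ((0, 0, 0), 4))⁻¹ := by decide +kernel
    have hemb : ∀ a : A, emb a ∈ K := by
      intro a
      refine mul_mem (mul_mem (pow_mem ?_ _) (pow_mem ?_ _)) (pow_mem ?_ _)
      · rw [← gen_one]; exact h1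
      · rw [e2]; exact mul_mem (mul_mem h2 h1) (inv_mem h2)
      · rw [e3]; exact mul_mem (mul_mem (mul_mem h2 h2) h1) (inv_mem (mul_mem h2 h2))
    have hw : ∀ (a : A) (w : Fin 24), elt (a, w) ∈ K → ww w ∈ K := by
      intro a w h
      have : ww w = (emb a)⁻¹ * elt (a, w) := by rw [elt, inv_mul_cancel_left]
      rw [this]
      exact mul_mem (inv_mem (hemb a)) h
    have hmul : ∀ v w : Fin 24, ww v ∈ K → ww w ∈ K → ww (mulW v w) ∈ K := fun v w hv hw' =>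
      ww_mul v w ▸ mul_mem hv hw'
    have w1 := hw _ _ h3
    have w4 := hw _ _ h2
    have w8 : ww 8 ∈ K := by
      have e : (8 : Fin 24) = mulW 4 4 := by decide +kernel
      rw [e]; exact hmul _ _ w4 w4
    have w12 : ww 12 ∈ K := by
      have e : (12 : Fin 24) = mulW 1 13 := by decide +kernel
      rw [e]; exact hmul _ _ w1 (hw _ _ h4)
    have all : ∀ w : Fin 24, ww w ∈ K := by
      have w2 : ww 2 ∈ K := by
        rcases (by decide +kernel : mulW (mulW 4 1) 8 = 2 ∨ mulW (mulW 8 1) 4 = 2) with e | e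
        · rw [← e]; exact hmul _ _ (hmul _ _ w4 w1) w8
        · rw [← e]; exact hmul _ _ (hmul _ _ w8 w1) w4
      have w3 : ww 3 ∈ K := by
        have e : (3 : Fin 24) = mulW 1 2 := by decide +kernel
        rw [e]; exact hmul _ _ w1 w2
      intro w
      have hs : ∀ i : Fin 4, sgnP i ∈ K := by
        intro i
        fin_cases i
        · exact one_mem _
        · exact (show sgnP 1 = ww 1 by decide +kernel) ▸ w1
        · exact (show sgnP 2 = ww 2 by decide +kernel) ▸ w2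
        · exact (show sgnP 3 = ww 3 by decide +kernel) ▸ w3
      refine mul_mem (hs _) (mul_mem (pow_mem ?_ _) (pow_mem ?_ _))
      · exact (show rotP = ww 4 by decide +kernel) ▸ w4
      · exact (show invP = ww 12 by decide +kernel) ▸ w12
    rintro x ⟨⟨a, w⟩, rfl⟩
    exact mul_mem (hemb a) (all w)

theorem model_card : Nat.card model = 648 := by
  have : Nat.card model = Nat.card (A × Fin 24) :=
    (Nat.card_congr (_root_.Equiv.ofInjective elt elt_injective)).symm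
  rw [this]
  simp

end Cfsg.Agent.Lib.Fgs9.CubeSix
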