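import Cfsg.Agent.Lib.Fgs9.CubeSix.Virtual
import Cfsg.Agent.Lib.Isometry.DadeGen
import Mathlib.GroupTheory.Transfer

/-!
# Transferring the virtual characters to the group
-/

namespace Cfsg.Agent.Lib.Fgs9.CubeSix

open Cfsg.Agent.Lib.Fgs9.CubeFour (A)
open Cfsg.Agent.Lib.Isometry
open scoped ComplexConjugate

theorem ordW_conj : ∀ v w : Fin 24, ordW (mulW (mulW v w) (invW v)) = ordW w := by decide +kernel

universe u
variable {G : Type u} [Group G] [Fintype G] {H : Subgroup G}

set_option linter.unusedSectionVars false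

theorem el_ne_one (F : Frame G H) {a : A} (ha : a ≠ 0) : F.el (a, 0) ≠ 1 := by
  intro h
  rw [← el_zero F.el_mul] at h
  exact ha (Prod.ext_iff.1 (F.el_inj h)).1

theorem exists_base_pow (F : Frame G H) {p : A × Fin 24} (hp : inX p) :
    ∃ (n : ℕ) (b : A), b ≠ 0 ∧ F.el p ^ n = F.el (b, 0) :=
  ⟨ordW p.2, _, hp, by rw [el_pow_snd F.el_mul, powW_ord]⟩

/-- The trivial intersection property. -/
theorem ti_X (F : Frame G H) {p : A × Fin 24} (hp : inX p) {g : G}
    (hg : g * F.el p * g⁻¹ ∈ H) : g ∈ H := by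
  obtain ⟨n, b, hb, hn⟩ := exists_base_pow F hp
  refine F.fusion b hb g ?_
  rw [← hn, ← conj_pow]
  exact pow_mem hg n

theorem conj_snd (F : Frame G H) (r p : A × Fin 24) :
    F.el r * F.el p * (F.el r)⁻¹ = F.el (mulC (mulC r p) (invC r)) := by
  rw [el_inv, F.el_mul, F.el_mul]

theorem inD_conj {p : A × Fin 24} (hp : inD p) (r : A × Fin 24) :
    inD (mulC (mulC r p) (invC r)) := by
  show ordW (mulW (mulW r.2 p.2) (invW r.2)) = 3
  rw [ordW_conj]; exact hp

/-- The elements of `H` with image of order three. -/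
def dSet (F : Frame G H) : Set G := {g | ∃ p, inD p ∧ F.el p = g}

theorem exists_fix_el (F : Frame G H) {p : A × Fin 24} (hp : inD p) :
    ∃ z : A, z ≠ 0 ∧ F.el (z, 0) ∈ Subgroup.centralizer ({F.el p} : Set G) := by
  obtain ⟨z, hz, hfix⟩ := exists_fix p.2 hp
  refine ⟨z, hz, Subgroup.mem_centralizer_singleton_iff.2 ?_⟩
  have h := conj_el F.el_mul F.el_inj p z
  rw [hfix, mul_inv_eq_iff_eq_mul] at h
  exact h.symm

theorem card_cent_H (F : Frame G H) {p : A × Fin 24} (hp : inD p) :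
    Nat.card ↥(H ⊓ Subgroup.centralizer ({F.el p} : Set G)) = 9 := by
  classical
  obtain ⟨a, w⟩ := p
  rw [← cent_nine w hp a, ← Fintype.card_subtype, ← Nat.card_eq_fintype_card]
  refine (Nat.card_congr (_root_.Equiv.ofBijective (fun q : {q : A × Fin 24 //
      mulC (a, w) q = mulC q (a, w)} => (⟨F.el q.1, Subgroup.mem_inf.2 ⟨F.el_mem _,
        Subgroup.mem_centralizer_singleton_iff.2 (by rw [F.el_mul, F.el_mul, q.2])⟩⟩ :
      ↥(H ⊓ Subgroup.centralizer ({F.el (a, w)} : Set G)))) ⟨?_, ?_⟩)).symm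
  · intro q q' h
    exact Subtype.ext (F.el_inj (congrArg Subtype.val h))
  · rintro ⟨x, hx⟩
    obtain ⟨q, rfl⟩ := F.el_surj x (Subgroup.mem_inf.1 hx).1
    refine ⟨⟨q, F.el_inj ?_⟩, rfl⟩
    rw [← F.el_mul, ← F.el_mul]
    exact (Subgroup.mem_centralizer_singleton_iff.1 (Subgroup.mem_inf.1 hx).2).symm

theorem isPGroup_cent_H (F : Frame G H) {p : A × Fin 24} (hp : inD p) :
    IsPGroup 3 ↥(H ⊓ Subgroup.centralizer ({F.el p} : Set G)) :=
  IsPGroup.of_card (n := 2) (by rw [card_cent_H F hp]; rfl)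

/-- `C_H(a)` as a Sylow subgroup of `C_G(a)`. -/
theorem exists_sylow_cent (F : Frame G H) {p : A × Fin 24} (hp : inD p) :
    ∃ S : Sylow 3 ↥(Subgroup.centralizer ({F.el p} : Set G)),
      (S : Subgroup _) = (H ⊓ Subgroup.centralizer ({F.el p} : Set G)).subgroupOf
        (Subgroup.centralizer ({F.el p} : Set G)) := by
  obtain ⟨z, hz, hzC⟩ := exists_fix_el F hp
  refine ⟨⟨_, (isPGroup_cent_H F hp).comap_subtype, ?_⟩, rfl⟩
  intro Q hQ hle
  refine le_antisymm (fun x hx => ?_) hle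
  have h1 : Q.map (Subgroup.centralizer ({F.el p} : Set G)).subtype ≤ H :=
    F.pgrp z hz _ (hQ.map _) ⟨⟨_, hzC⟩, hle (Subgroup.mem_subgroupOf.2
      (Subgroup.mem_inf.2 ⟨F.el_mem _, hzC⟩)), rfl⟩
  exact Subgroup.mem_subgroupOf.2 (Subgroup.mem_inf.2 ⟨h1 ⟨x, hx, rfl⟩, x.2⟩)

/-- Conjugating an element of order three of `C_G(a)` into `H`. -/
theorem exists_conj_into (F : Frame G H) {p : A × Fin 24} (hp : inD p) {y : G}
    (hy : y ∈ Subgroup.centralizer ({F.el p} : Set G)) (hy3 : y ^ 3 = 1) :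
    ∃ c ∈ Subgroup.centralizer ({F.el p} : Set G), c * y * c⁻¹ ∈ H := by
  haveI : Fact (Nat.Prime 3) := ⟨Nat.prime_three⟩
  obtain ⟨S, hS⟩ := exists_sylow_cent F hp
  let C := Subgroup.centralizer ({F.el p} : Set G)
  have hyp : IsPGroup 3 (Subgroup.zpowers (⟨y, hy⟩ : C)) := by
    intro w
    refine ⟨1, ?_⟩
    obtain ⟨w, k, rfl⟩ := w
    apply Subtype.ext; apply Subtype.ext
    simp only [SubmonoidClass.coe_pow, SubgroupClass.coe_zpow, OneMemClass.coe_one, pow_one]
    rw [← zpow_natCast, ← zpow_mul, mul_comm, zpow_mul, zpow_natCast, hy3, one_zpow]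
  obtain ⟨P, hP⟩ := hyp.exists_le_sylow
  obtain ⟨c, hc⟩ := MulAction.exists_smul_eq C P S
  refine ⟨c, c.2, ?_⟩
  have h : c * ⟨y, hy⟩ * c⁻¹ ∈ (S : Subgroup C) := by
    rw [← hc, Sylow.coe_subgroup_smul]
    exact Subgroup.smul_mem_pointwise_smul _ (MulAut.conj c) _ (hP (Subgroup.mem_zpowers _))
  rw [hS] at h
  exact (Subgroup.mem_inf.1 (Subgroup.mem_subgroupOf.1 h)).1

/-- The normal complement in the centraliser. -/
theorem exists_complement (F : Frame G H) {p : A × Fin 24} (hp : inD p) :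
    ∃ K : Subgroup ↥(Subgroup.centralizer ({F.el p} : Set G)), K.Normal ∧
      K.IsComplement' ((H ⊓ Subgroup.centralizer ({F.el p} : Set G)).subgroupOf
        (Subgroup.centralizer ({F.el p} : Set G))) ∧ ¬ 3 ∣ Nat.card K := by
  haveI : Fact (Nat.Prime 3) := ⟨Nat.prime_three⟩
  obtain ⟨S, hS⟩ := exists_sylow_cent F hp
  obtain ⟨z, hz, hzC⟩ := exists_fix_el F hp
  rw [← hS]
  have hcard : Nat.card (S : Subgroup ↥(Subgroup.centralizer ({F.el p} : Set G))) = 3 ^ 2 := by
    rw [hS, Nat.card_congr (Subgroup.subgroupOfEquivOfLe inf_le_right).toEquiv, card_cent_H F hp]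
    rfl
  have hab := (IsPGroup.isMulCommutative_of_card_eq_prime_sq hcard).is_comm.comm
  have hN : Subgroup.normalizer ((S : Subgroup ↥(Subgroup.centralizer ({F.el p} : Set G))) :
      Set ↥(Subgroup.centralizer ({F.el p} : Set G))) ≤
      Subgroup.centralizer ((S : Subgroup ↥(Subgroup.centralizer ({F.el p} : Set G))) :
        Set ↥(Subgroup.centralizer ({F.el p} : Set G))) := by
    intro c hc
    have hzS : (⟨_, hzC⟩ : ↥(Subgroup.centralizer ({F.el p} : Set G))) ∈ (S : Subgroup _) := by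
      rw [hS]
      exact Subgroup.mem_subgroupOf.2 (Subgroup.mem_inf.2 ⟨F.el_mem _, hzC⟩)
    have h := (Subgroup.mem_normalizer_iff.1 hc _).1 hzS
    rw [hS] at h
    have hcH := F.fusion z hz c (Subgroup.mem_inf.1 (Subgroup.mem_subgroupOf.1 h)).1
    have hcS : c ∈ (S : Subgroup _) := by
      rw [hS]
      exact Subgroup.mem_subgroupOf.2 (Subgroup.mem_inf.2 ⟨hcH, c.2⟩)
    rw [Subgroup.mem_centralizer_iff]
    intro x hx
    exact congrArg Subtype.val (hab ⟨x, hx⟩ ⟨c, hcS⟩)
  exact ⟨_, MonoidHom.normal_ker _, MonoidHom.ker_transferSylow_isComplement' S hN,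
    MonoidHom.not_dvd_card_ker_transferSylow S hN⟩

/-- The kernels of the Dade hypothesis. -/
def kSub (g : G) : Subgroup G :=
  Subgroup.closure {x | x ∈ Subgroup.centralizer ({g} : Set G) ∧ Nat.Coprime (orderOf x) 3}

theorem exists_kSub (F : Frame G H) {p : A × Fin 24} (hp : inD p) :
    ∃ K : Subgroup ↥(Subgroup.centralizer ({F.el p} : Set G)), K.Normal ∧
      K.IsComplement' ((H ⊓ Subgroup.centralizer ({F.el p} : Set G)).subgroupOf
        (Subgroup.centralizer ({F.el p} : Set G))) ∧ ¬ 3 ∣ Nat.card K ∧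
      kSub (F.el p) = K.map (Subgroup.centralizer ({F.el p} : Set G)).subtype := by
  obtain ⟨K, hn, hc, h3⟩ := exists_complement F hp
  refine ⟨K, hn, hc, h3, le_antisymm ?_ ?_⟩
  · rw [kSub, Subgroup.closure_le]
    rintro x ⟨hxC, hx⟩
    refine ⟨⟨x, hxC⟩, ?_, rfl⟩
    have hidx : K.index = 9 := by
      rw [hc.symm.index_eq_card, Nat.card_congr (Subgroup.subgroupOfEquivOfLe inf_le_right).toEquiv,
        card_cent_H F hp]
    have h9 : Nat.Coprime 9 (orderOf (⟨x, hxC⟩ : ↥(Subgroup.centralizer ({F.el p} : Set G)))) := by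
      rw [Subgroup.orderOf_mk, show (9 : ℕ) = 3 ^ 2 from rfl]
      exact (Nat.Coprime.symm hx).pow_left 2
    obtain ⟨m, hm⟩ := exists_pow_eq_self_of_coprime h9
    have h := K.pow_index_mem (⟨x, hxC⟩ : ↥(Subgroup.centralizer ({F.el p} : Set G)))
    rw [hidx] at h
    have h' := pow_mem h m
    rwa [hm] at h'
  · rintro _ ⟨x, hx, rfl⟩
    refine Subgroup.subset_closure ⟨x.2, ?_⟩
    rw [Subgroup.subtype_apply, Subgroup.orderOf_coe]
    exact Nat.Coprime.coprime_dvd_left (Subgroup.orderOf_dvd_natCard K hx)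
      ((Nat.prime_three.coprime_iff_not_dvd.2 h3).symm)

theorem kSub_inf (F : Frame G H) {p : A × Fin 24} (hp : inD p) {x : G} (hx : x ∈ kSub (F.el p))
    (hxH : x ∈ H) : x = 1 := by
  obtain ⟨K, -, hc, -, e⟩ := exists_kSub F hp
  rw [e] at hx
  obtain ⟨k, hk, rfl⟩ := hx
  have h : k ∈ K ⊓ (H ⊓ Subgroup.centralizer ({F.el p} : Set G)).subgroupOf
      (Subgroup.centralizer ({F.el p} : Set G)) :=
    Subgroup.mem_inf.2 ⟨hk, Subgroup.mem_subgroupOf.2 (Subgroup.mem_inf.2 ⟨hxH, k.2⟩)⟩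
  rw [hc.disjoint.eq_bot, Subgroup.mem_bot] at h
  rw [h]; rfl

theorem kSub_le (g : G) : kSub g ≤ Subgroup.centralizer ({g} : Set G) :=
  (Subgroup.closure_le _).2 fun _ hx => hx.1

theorem kSub_conj {g c u : G} (hc : c ∈ Subgroup.centralizer ({g} : Set G)) (hu : u ∈ kSub g) :
    c * u * c⁻¹ ∈ kSub g := by
  have h : kSub g ≤ (kSub g).comap (MulAut.conj c).toMonoidHom := by
    refine (Subgroup.closure_le _).2 fun x hx => ?_
    simp only [SetLike.mem_coe, Subgroup.mem_comap, MulEquiv.coe_toMonoidHom, MulAut.conj_apply]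
    refine Subgroup.subset_closure ⟨mul_mem (mul_mem hc hx.1) (inv_mem hc), ?_⟩
    rw [show c * x * c⁻¹ = MulAut.conj c x from rfl, MulEquiv.orderOf_eq]
    exact hx.2
  simpa using h hu

theorem one_notMem_dSet (F : Frame G H) : (1 : G) ∉ dSet F := by
  rintro ⟨p, hp, he⟩
  rw [← el_zero F.el_mul] at he
  rw [F.el_inj he] at hp
  exact absurd hp (by decide +kernel)

/-- The Dade hypothesis. -/
theorem dade_hyp (F : Frame G H) : Cfsg.DadeHypothesis (dSet F) H kSub where
  one_not_mem := one_notMem_dSet F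
  subset := by rintro _ ⟨p, -, rfl⟩; exact F.el_mem p
  conj_mem := by
    rintro x hx _ ⟨p, hp, rfl⟩
    obtain ⟨r, rfl⟩ := F.el_surj x hx
    exact ⟨_, inD_conj hp r, (conj_snd F r p).symm⟩
  fusion := by
    rintro _ ⟨p, hp, rfl⟩ g ⟨q, hq, he⟩
    obtain ⟨z, hz, hzC⟩ := exists_fix_el F hp
    have hy : g * F.el (z, 0) * g⁻¹ ∈ Subgroup.centralizer ({F.el q} : Set G) := by
      rw [Subgroup.mem_centralizer_singleton_iff] at hzC ⊢
      rw [he]
      calc g * F.el (z, 0) * g⁻¹ * (g * F.el p * g⁻¹) = g * (F.el (z, 0) * F.el p) * g⁻¹ := by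
            group
        _ = g * (F.el p * F.el (z, 0)) * g⁻¹ := by rw [hzC]
        _ = _ := by group
    have hy3 : (g * F.el (z, 0) * g⁻¹) ^ 3 = 1 := by
      rw [conj_pow, el_pow_three F.el_mul]; group
    obtain ⟨c, hc, hcH⟩ := exists_conj_into F hq hy hy3
    have hcg : c * g ∈ H := by
      refine F.fusion z hz (c * g) ?_
      convert hcH using 1
      group
    refine ⟨c * g, hcg, ?_⟩
    rw [Subgroup.mem_centralizer_singleton_iff, he] at hc
    calc c * g * F.el p * (c * g)⁻¹ = c * (g * F.el p * g⁻¹) * c⁻¹ := by group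
      _ = _ := by rw [hc]; group
  le_centralizer := fun a _ => kSub_le a
  conj_mem_H := fun _ _ c hc u hu => kSub_conj hc hu
  inf_eq_bot := by
    rintro _ ⟨p, hp, rfl⟩
    rw [Subgroup.eq_bot_iff_forall]
    intro x hx
    exact kSub_inf F hp (Subgroup.mem_inf.1 hx).1
      (Subgroup.mem_inf.1 (Subgroup.mem_inf.1 hx).2).1
  sup_eq := by
    rintro _ ⟨p, hp, rfl⟩
    obtain ⟨K, -, hc, -, e⟩ := exists_kSub F hp
    apply le_antisymm (sup_le (kSub_le _) inf_le_right)
    intro x hx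
    have h : (⟨x, hx⟩ : ↥(Subgroup.centralizer ({F.el p} : Set G))) ∈
        K ⊔ (H ⊓ Subgroup.centralizer ({F.el p} : Set G)).subgroupOf _ := by
      rw [hc.sup_eq_top]; exact Subgroup.mem_top _
    have h' := Subgroup.mem_map_of_mem (Subgroup.centralizer ({F.el p} : Set G)).subtype h
    rw [Subgroup.map_sup, ← e, Subgroup.map_subgroupOf_eq_of_le inf_le_right] at h'
    exact h'
  coprime := by
    rintro _ ⟨p, hp, rfl⟩ _ ⟨q, hq, rfl⟩
    obtain ⟨K, -, -, h3, e⟩ := exists_kSub F hp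
    rw [card_cent_H F hq, e, Subgroup.card_map_of_injective
      (Subgroup.centralizer ({F.el p} : Set G)).subtype_injective, show (9 : ℕ) = 3 ^ 2 from rfl]
    exact ((Nat.prime_three.coprime_iff_not_dvd.2 h3).symm).pow_right 2

/-- An element of the first kind in the support of the Dade map is of the second kind. -/
theorem inD_of_conj (F : Frame G H) {p q : A × Fin 24} (hp : inX p) (hq : inD q) {x u : G}
    (hu : u ∈ kSub (F.el q)) (e : x * F.el p * x⁻¹ = F.el q * u) : inD p := by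
  obtain ⟨n, b, hb, hn⟩ := exists_base_pow F hp
  have hC : F.el q * u ∈ Subgroup.centralizer ({F.el q} : Set G) :=
    mul_mem (Subgroup.mem_centralizer_singleton_iff.2 rfl) (kSub_le _ hu)
  have hy : x * F.el (b, 0) * x⁻¹ ∈ Subgroup.centralizer ({F.el q} : Set G) := by
    rw [← hn, ← conj_pow, e]; exact pow_mem hC n
  have hy3 : (x * F.el (b, 0) * x⁻¹) ^ 3 = 1 := by
    rw [conj_pow, el_pow_three F.el_mul]; group
  obtain ⟨c, hc, hcH⟩ := exists_conj_into F hq hy hy3
  have hcx : c * x ∈ H := by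
    refine F.fusion b hb (c * x) ?_
    convert hcH using 1
    group
  have hcc : c * F.el q = F.el q * c := Subgroup.mem_centralizer_singleton_iff.1 hc
  have h1 : c * x * F.el p * (c * x)⁻¹ = F.el q * (c * u * c⁻¹) := by
    calc c * x * F.el p * (c * x)⁻¹ = c * (x * F.el p * x⁻¹) * c⁻¹ := by group
      _ = c * F.el q * u * c⁻¹ := by rw [e]; group
      _ = _ := by rw [hcc]; group
  have h2 : c * u * c⁻¹ = 1 := by
    refine kSub_inf F hq (kSub_conj hc hu) ?_
    have : c * u * c⁻¹ = (F.el q)⁻¹ * (c * x * F.el p * (c * x)⁻¹) := by rw [h1]; group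
    rw [this]
    exact mul_mem (inv_mem (F.el_mem q)) (mul_mem (mul_mem hcx (F.el_mem p)) (inv_mem hcx))
  rw [h2, mul_one] at h1
  obtain ⟨r, hr⟩ := F.el_surj _ hcx
  rw [hr, conj_snd] at h1
  have h3 := congrArg Prod.snd (F.el_inj h1)
  simp only [mulC, invC] at h3
  have h4 := ordW_conj r.2 p.2
  rw [h3] at h4
  exact h4.symm.trans hq

/-- The transferred virtual characters. -/
noncomputable def bigT (F : Frame G H) (k : Fin 10) : G → ℂ :=
  if dKind k then Cfsg.dadeIsometry (dSet F) H kSub (phiH F k) else Cfsg.indFun H (phiH F k)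

theorem phiH_supp_D (F : Frame G H) {k : Fin 10} (hk : dKind k) (x : H) (hx : (x : G) ∉ dSet F) :
    phiH F k x = 0 := by
  by_contra h
  refine hx ⟨coord F x, phi_supp_D hk h, ?_⟩
  exact congrArg Subtype.val (elH_coord F x)

theorem bigT_gen (F : Frame G H) (k : Fin 10) : Cfsg.IsGeneralizedCharacter G (bigT F k) := by
  classical
  haveI := Fintype.ofFinite H
  unfold bigT
  split_ifs with hk
  · exact DadeGen.gen_dade (dade_hyp F) (phiH_gen F k) (phiH_supp_D F hk)
  · exact Induced.Character.isGeneralizedCharacter_indFun _ (phiH_gen F k)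

theorem bigT_class (F : Frame G H) (k : Fin 10) : Cfsg.IsClassFunction G (bigT F k) :=
  Inner.gen_classFun (bigT_gen F k)

theorem phi_one (k : Fin 10) : phi k (0, 0) = 0 := by
  by_contra h
  by_cases hk : dKind k
  · exact absurd (phi_supp_D hk h) (by decide +kernel)
  · exact absurd (phi_supp_X hk h) (by decide +kernel)

theorem bigT_one (F : Frame G H) (k : Fin 10) : bigT F k 1 = 0 := by
  unfold bigT
  split_ifs with hk
  · refine Dade.dadeIsometry_eq_zero ?_
    rintro ⟨a, ha, w, hw, x, e⟩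
    obtain ⟨p, hp, rfl⟩ := ha
    have hpw : F.el p = w⁻¹ := eq_inv_of_mul_eq_one_left (by rw [← e]; group)
    have hmem := inv_mem hw
    rw [← hpw] at hmem
    have h1 := kSub_inf F hp hmem (F.el_mem p)
    exact one_notMem_dSet F (h1 ▸ ⟨p, hp, rfl⟩)
  · rw [Induced.Basic.indFun_one]
    have : phiH F k 1 = 0 := by rw [phiH, coord_one, phi_one]
    rw [this, mul_zero]

/-- On elements of the first kind all ten functions restrict to the original ones. -/
theorem bigT_X (F : Frame G H) (k : Fin 10) {p : A × Fin 24} (hp : inX p) :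
    bigT F k (F.el p) = phi k p := by
  classical
  unfold bigT
  split_ifs with hk
  · by_cases hD : inD p
    · have h := Dade.dadeIsometry_coset (dade_hyp F) (phiH_class F k) (elH F p)
        (show ((elH F p : H) : G) ∈ dSet F from ⟨p, hD, rfl⟩) (u := 1) (one_mem _)
      rw [mul_one, phiH_el] at h
      exact h
    · rw [Dade.dadeIsometry_eq_zero]
      · by_contra h
        exact hD (phi_supp_D hk (fun e => h e.symm))
      · rintro ⟨a, ⟨q, hq, rfl⟩, w, hw, x, e⟩
        exact hD (inD_of_conj F hp hq hw e)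
  · rw [Induced.Basic.indFun_apply]
    have hterm : ∀ x : G, (if hx : x⁻¹ * F.el p * x ∈ H then phiH F k ⟨_, hx⟩ else 0) =
        if x ∈ H then phi k p else 0 := by
      intro x
      by_cases hx : x ∈ H
      · have hm : x⁻¹ * F.el p * x ∈ H := mul_mem (mul_mem (inv_mem hx) (F.el_mem p)) hx
        rw [dif_pos hm, if_pos hx]
        have e : (⟨_, hm⟩ : H) = (⟨x, hx⟩ : H)⁻¹ * elH F p * ((⟨x, hx⟩ : H)⁻¹)⁻¹ := by
          apply Subtype.ext
          simp [elH]
        rw [e, phiH_class F k, phiH_el]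
      · rw [if_neg hx, dif_neg]
        intro hm
        refine hx ?_
        have := ti_X F hp (g := x⁻¹) (by rw [inv_inv]; exact hm)
        simpa using inv_mem this
    simp only [hterm]
    rw [← Finset.sum_filter, Finset.sum_const, ← Fintype.card_subtype, ← Nat.card_eq_fintype_card,
      nsmul_eq_mul, ← mul_assoc, inv_mul_cancel₀ (Nat.cast_ne_zero.2 Nat.card_pos.ne'), one_mul]

theorem bigT_inner (F : Frame G H) (k l : Fin 10) :
    Cfsg.classInner (bigT F k) (bigT F l) = (Search.gramN k.val l.val : ℂ) := by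
  classical
  letI := Fintype.ofFinite H
  have hXl : ∀ k' l' : Fin 10, ¬ dKind k' →
      Cfsg.classInner (bigT F k') (bigT F l') = Cfsg.classInner (phiH F k') (phiH F l') := by
    intro k' l' hk'
    have : bigT F k' = Cfsg.indFun H (phiH F k') := if_neg hk'
    rw [this, Induced.Basic.frobenius_reciprocity H _ (bigT_class F l'), Cfsg.classInner,
      Cfsg.classInner]
    congr 1
    refine Finset.sum_congr rfl fun h _ => ?_
    by_cases h0 : phiH F k' h = 0
    · rw [h0, zero_mul, zero_mul]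
    · obtain ⟨p, rfl⟩ := (elH_bijective F).2 h
      rw [phiH_el] at h0
      rw [phiH_el F l', ← bigT_X F l' (phi_supp_X hk' h0)]
      rfl
  by_cases hk : dKind k
  · by_cases hl : dKind l
    · rw [show bigT F k = _ from if_pos hk, show bigT F l = _ from if_pos hl,
        Dade.classInner_dade_dade (dade_hyp F) (phiH_class F k) (phiH_supp_D F hk)
          (phiH_class F l), phiH_gram]
    · rw [← Induced.Basic.classInner_conj_symm, hXl l k hl, phiH_gram, map_intCast,
        Search.gram_symm l.val l.isLt k.val k.isLt]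
  · rw [hXl k l hk, phiH_gram]

theorem bigT_triv (F : Frame G H) (k : Fin 10) :
    Cfsg.classInner (bigT F k) 1 = (Search.trivN k.val : ℂ) := by
  classical
  letI := Fintype.ofFinite H
  rw [← phiH_triv F k]
  unfold bigT
  split_ifs with hk
  · refine Dade.classInner_dade (dade_hyp F) (phiH_class F k) (phiH_supp_D F hk)
      (fun _ _ => rfl) fun a ha => ?_
    simp only [Pi.one_apply]
    rw [finsum_mem_eq_toFinset_sum, Finset.sum_const, nsmul_one, Set.toFinset_card,
      ← Nat.card_eq_fintype_card]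
    simp only [SetLike.coe_sort_coe]
    rw [inv_mul_cancel₀ (Nat.cast_ne_zero.2 Nat.card_pos.ne')]
  · rw [Induced.Basic.frobenius_reciprocity H _ (fun _ _ => rfl)]
    rfl

end Cfsg.Agent.Lib.Fgs9.CubeSix
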