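import Cfsg.Agent.Lib.Fgs9.CubeSix.Chars
import Cfsg.Agent.Lib.Fgs9.CubeSix.Local
import Cfsg.Agent.Lib.Induced.Generalized

/-!
# The ten virtual characters on the subgroup
-/

namespace Cfsg.Agent.Lib.Fgs9.CubeSix

open Cfsg.Agent.Lib.Fgs9.CubeFour (A dot)
open Cfsg.Agent.Lib.Induced.Basic
open scoped ComplexConjugate

/-- Some power lies in the nontrivial part of the elementary subgroup. -/
abbrev inX (p : A × Fin 24) : Prop := nrmA p.2 p.1 (ordW p.2) ≠ 0

/-- The image in `S₄` has order three. -/
abbrev inD (p : A × Fin 24) : Prop := ordW p.2 = 3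

theorem powW_ord : ∀ w : Fin 24, powW w (ordW w) = 0 := by decide +kernel

theorem cls_X : ∀ p : A × Fin 24,
    cls p ∈ ([1, 2, 3, 5, 7, 8, 10, 12, 13] : List (Fin 14)) → inX p := by decide +kernel

theorem cls_D : ∀ p : A × Fin 24, cls p ∈ ([6, 7, 8] : List (Fin 14)) → inD p := by decide +kernel

/-- The two functions supported on elements with image of order three. -/
abbrev dKind (k : Fin 10) : Prop := k = 1 ∨ k = 2

theorem val_supp : ∀ k : Fin 10, ∀ c : Fin 14, valTbl k c ≠ 0 →
    (dKind k → c ∈ ([6, 7, 8] : List (Fin 14))) ∧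
    (¬ dKind k → c ∈ ([1, 2, 3, 5, 7, 8, 10, 12, 13] : List (Fin 14))) := by decide +kernel

theorem phi_supp_X {k : Fin 10} (hk : ¬ dKind k) {p : A × Fin 24} (h : phi k p ≠ 0) : inX p :=
  cls_X p ((val_supp k _ fun e => h (by simp [phi, e, toC4_zero])).2 hk)

theorem phi_supp_D {k : Fin 10} (hk : dKind k) {p : A × Fin 24} (h : phi k p ≠ 0) : inD p :=
  cls_D p ((val_supp k _ fun e => h (by simp [phi, e, toC4_zero])).1 hk)

/-- Representatives of the three nontrivial orbits. -/
def wtA : Fin 3 → A := ![(1, 0, 0), (1, 1, 0), (1, 1, 1)]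

/-- The centraliser orders. -/
def centN : Fin 3 → ℤ := ![108, 54, 81]

theorem wtA_ne : ∀ w, wtA w ≠ 0 := by decide +kernel

theorem exp_table : ∀ w : Fin 3,
    ∑ k : Fin 10, smul4 (Search.expN w.val k.val) (valTbl k (cls (wtA w, 0))) =
      (24 * centN w, 0, 0, 0) := by decide +kernel

theorem exp_gram : ∀ w : Fin 3,
    ∑ k : Fin 10, ∑ l : Fin 10,
      Search.expN w.val k.val * Search.expN w.val l.val * Search.gramN k.val l.val =
        centN w := by decide +kernel

theorem exp_phi (w : Fin 3) :
    ∑ k : Fin 10, (Search.expN w.val k.val : ℂ) * phi k (wtA w, 0) = (centN w : ℂ) := by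
  simp only [phi, mul_div_assoc', ← toC4_smul, ← Finset.sum_div, ← toC4_sum, exp_table]
  simp [toC4]

theorem conj_zero_el : ∀ v : Fin 24, ∀ w : Fin 24, mulW (invW v) (mulW w v) =
    mulW (mulW (invW v) w) v := by decide +kernel

universe u
set_option linter.unusedSectionVars false

variable {G : Type u} [Group G] [Fintype G] {H : Subgroup G}

theorem el_inv (F : Frame G H) (p : A × Fin 24) : (F.el p)⁻¹ = F.el (invC p) := by
  refine inv_eq_of_mul_eq_one_right ?_
  rw [F.el_mul, mulC_invC]
  exact el_zero F.el_mul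

/-- The element of `H` with given coordinates. -/
def elH (F : Frame G H) (p : A × Fin 24) : H := ⟨F.el p, F.el_mem p⟩

theorem elH_mul (F : Frame G H) (p q : A × Fin 24) : elH F p * elH F q = elH F (mulC p q) :=
  Subtype.ext (F.el_mul p q)

theorem elH_bijective (F : Frame G H) : Function.Bijective (elH F) := by
  refine ⟨fun p q h => F.el_inj (congrArg Subtype.val h), fun h => ?_⟩
  obtain ⟨p, hp⟩ := F.el_surj _ h.2
  exact ⟨p, Subtype.ext hp.symm⟩

/-- The coordinates of an element of `H`. -/
noncomputable def coord (F : Frame G H) (h : H) : A × Fin 24 :=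
  (_root_.Equiv.ofBijective _ (elH_bijective F)).symm h

theorem coord_elH (F : Frame G H) (p : A × Fin 24) : coord F (elH F p) = p :=
  (_root_.Equiv.ofBijective _ (elH_bijective F)).symm_apply_apply p

theorem elH_coord (F : Frame G H) (h : H) : elH F (coord F h) = h :=
  (_root_.Equiv.ofBijective _ (elH_bijective F)).apply_symm_apply h

theorem coord_mul (F : Frame G H) (g h : H) : coord F (g * h) = mulC (coord F g) (coord F h) := by
  conv_lhs => rw [← elH_coord F g, ← elH_coord F h, elH_mul, coord_elH]

theorem coord_one (F : Frame G H) : coord F 1 = (0, 0) := by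
  rw [← coord_elH F (0, 0)]
  congr 1
  exact Subtype.ext (el_zero F.el_mul).symm

theorem coord_inv (F : Frame G H) (h : H) : coord F h⁻¹ = invC (coord F h) := by
  conv_lhs => rw [← elH_coord F h]
  rw [show (elH F (coord F h))⁻¹ = elH F (invC (coord F h)) from Subtype.ext (el_inv F _), coord_elH]

/-- The virtual characters. -/
noncomputable def phiH (F : Frame G H) (k : Fin 10) (h : H) : ℂ := phi k (coord F h)

theorem phiH_el (F : Frame G H) (k : Fin 10) (p : A × Fin 24) :
    phiH F k (elH F p) = phi k p := by rw [phiH, coord_elH]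

theorem sum_H {M : Type*} [AddCommMonoid M] (F : Frame G H) [Fintype H] (f : H → M) :
    ∑ h, f h = ∑ p : A × Fin 24, f (elH F p) :=
  (Fintype.sum_bijective _ (elH_bijective F) _ _ fun _ => rfl).symm

theorem card_H (F : Frame G H) : Nat.card H = 648 := by
  rw [← Nat.card_congr (_root_.Equiv.ofBijective _ (elH_bijective F))]
  simp

/-- The inducing subgroup. -/
def indSub (F : Frame G H) (i : Fin 14) : Subgroup H where
  carrier := {h | (muTbl i (coord F h).2).isSome}
  mul_mem' := by
    intro g h hg hh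
    simp only [Set.mem_setOf_eq, Option.isSome_iff_exists] at hg hh ⊢
    obtain ⟨m, hm⟩ := hg
    obtain ⟨n, hn⟩ := hh
    rw [coord_mul]
    exact ⟨m + n, ((stab_closed i).2 _ m hm).2 _ n hn⟩
  one_mem' := by
    simp only [Set.mem_setOf_eq, coord_one, (stab_closed i).1, Option.isSome_some]
  inv_mem' := by
    intro h hh
    simp only [Set.mem_setOf_eq, Option.isSome_iff_exists] at hh ⊢
    obtain ⟨m, hm⟩ := hh
    rw [coord_inv]
    exact Option.isSome_iff_exists.1 ((stab_closed i).2 _ m hm).1

theorem mem_indSub (F : Frame G H) (i : Fin 14) (p : A × Fin 24) :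
    elH F p ∈ indSub F i ↔ (muTbl i p.2).isSome := by
  change (muTbl i (coord F (elH F p)).2).isSome ↔ _
  rw [coord_elH]

theorem lamFun_one (i : Fin 14) : lamFun i (0, 0) = 1 := by
  simp only [lamFun, (stab_closed i).1]
  rw [show four (dot (lamTbl i) 0) + 0 = 0 by simp [four, dot], zp_zero]

theorem lamFun_mul (i : Fin 14) {p q : A × Fin 24} (hp : (muTbl i p.2).isSome)
    (hq : (muTbl i q.2).isSome) : lamFun i (mulC p q) = lamFun i p * lamFun i q := by
  obtain ⟨m, hm⟩ := Option.isSome_iff_exists.1 hp
  obtain ⟨n, hn⟩ := Option.isSome_iff_exists.1 hq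
  have h := ((stab_closed i).2 _ m hm).2 _ n hn
  simp only [lamFun, mulC, hm, hn, h]
  rw [dot_add, stab_lam i p.2 hp, four_add, ← toC4_mul, ← zp_add]
  congr 2
  ring

/-- The linear character of the inducing subgroup. -/
noncomputable def indHom (F : Frame G H) (i : Fin 14) : indSub F i →* ℂˣ :=
  MonoidHom.toHomUnits
    { toFun := fun s => lamFun i (coord F s)
      map_one' := by simp only [OneMemClass.coe_one, coord_one, lamFun_one]
      map_mul' := fun s t => by
        simp only [Subgroup.coe_mul, coord_mul]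
        exact lamFun_mul i s.2 t.2 }

theorem ext_indHom (F : Frame G H) (i : Fin 14) (p : A × Fin 24) :
    Cfsg.extendByZero (indSub F i) (fun s => (indHom F i s : ℂ)) (elH F p) = lamFun i p := by
  by_cases h : elH F p ∈ indSub F i
  · rw [extendByZero_of_mem _ _ h]
    show lamFun i (coord F (elH F p)) = _
    rw [coord_elH]
  · rw [extendByZero_of_not_mem _ _ h]
    rw [mem_indSub, Option.not_isSome_iff_eq_none] at h
    simp [lamFun, h]

theorem card_indSub (F : Frame G H) (i : Fin 14) :
    Nat.card (indSub F i) = 27 * (Finset.univ.filter fun w => (muTbl i w).isSome).card := by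
  classical
  have e : {p : A × Fin 24 // (muTbl i p.2).isSome} ≃ indSub F i :=
    (_root_.Equiv.ofBijective _ (elH_bijective F)).subtypeEquiv fun p => (mem_indSub F i p).symm
  rw [← Nat.card_congr e, Nat.card_eq_fintype_card, Fintype.card_subtype]
  have : (Finset.univ.filter fun p : A × Fin 24 => (muTbl i p.2).isSome) =
      (Finset.univ : Finset A) ×ˢ Finset.univ.filter fun w => (muTbl i w).isSome := by
    ext p; simp
  rw [this, Finset.card_product]
  rfl

theorem sum_shift {M : Type*} [AddCommMonoid M] (f : A × Fin 24 → M) :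
    ∑ p, f p = ∑ p : A × Fin 24, f (act p.2 p.1, p.2) := by
  refine (Fintype.sum_bijective (fun p : A × Fin 24 => (act p.2 p.1, p.2)) ?_ _ _ fun _ => rfl).symm
  rw [← Finite.injective_iff_bijective]
  rintro ⟨a, v⟩ ⟨b, w⟩ h
  simp only [Prod.mk.injEq] at h
  obtain ⟨h1, rfl⟩ := h
  have := congrArg (act (invW v)) h1
  rw [← act_mul, ← act_mul, mulW_inv_left, act_zero_left, act_zero_left] at this
  rw [this]

theorem ind_eq (F : Frame G H) [Fintype H] (i : Fin 14) (a : A) (w : Fin 24) :
    Cfsg.indFun (indSub F i) (fun s => (indHom F i s : ℂ)) (elH F (a, w)) =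
      toC4 (chiTbl i (cls (a, w))) / 24 := by
  classical
  set θ : indSub F i → ℂ := fun s => (indHom F i s : ℂ) with hθdef
  have hθ : Cfsg.IsClassFunction (indSub F i) θ := by
    intro g h
    simp only [hθdef, map_mul, map_inv, mul_inv_cancel_comm]
  have h1 : ∀ (b : A) (v : Fin 24),
      Cfsg.extendByZero (indSub F i) θ
        ((elH F (act v b, v))⁻¹ * elH F (a, w) * elH F (act v b, v)) =
      lamFun i (act (invW v) a, mulW (mulW (invW v) w) v) := by
    intro b v
    have hsplit : elH F (act v b, v) = elH F (0, v) * elH F (b, 0) := by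
      rw [elH_mul]
      congr 1
      simp [mulC, (mulW_zero v).1]
    have hmem : (elH F (b, 0))⁻¹ ∈ indSub F i :=
      inv_mem ((mem_indSub F i _).2 (by simp [(stab_closed i).1]))
    have hmid : (elH F (0, v))⁻¹ * elH F (a, w) * elH F (0, v) =
        elH F (act (invW v) a, mulW (mulW (invW v) w) v) := by
      rw [show (elH F (0, v))⁻¹ = elH F (invC (0, v)) from Subtype.ext (el_inv F _), elH_mul,
        elH_mul]
      congr 1
      simp [mulC, invC, act_zero]
    rw [hsplit]
    calc Cfsg.extendByZero (indSub F i) θ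
          ((elH F (0, v) * elH F (b, 0))⁻¹ * elH F (a, w) * (elH F (0, v) * elH F (b, 0)))
        = Cfsg.extendByZero (indSub F i) θ ((elH F (b, 0))⁻¹ *
            ((elH F (0, v))⁻¹ * elH F (a, w) * elH F (0, v)) * ((elH F (b, 0))⁻¹)⁻¹) := by
          congr 1; group
      _ = _ := by rw [extendByZero_conj_of_mem _ hθ hmem, hmid, ext_indHom]
  rw [Cfsg.indFun, sum_H F, sum_shift, Fintype.sum_prod_type]
  simp only [h1, Finset.sum_const, Finset.card_univ, ← chiTerm_eq, nsmul_eq_mul]
  rw [← toC4_sum, card_indSub, show Fintype.card A = 27 from rfl, ← chi_table_aux i w a, toC4_smul]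
  have h24 := congrArg (fun z : ℤ => (z : ℂ)) (idx_card i)
  push_cast at h24 ⊢
  have hne : ((Finset.univ.filter fun w => (muTbl i w).isSome).card : ℂ) ≠ 0 := by
    intro h0; rw [h0, mul_zero] at h24; norm_num at h24
  have hi : (idxTbl i : ℂ) ≠ 0 := by
    intro h0; rw [h0, zero_mul] at h24; norm_num at h24
  rw [← h24]
  field_simp

theorem phiH_gen (F : Frame G H) (k : Fin 10) : Cfsg.IsGeneralizedCharacter H (phiH F k) := by
  classical
  letI := Fintype.ofFinite H
  have e : phiH F k = ∑ i : Fin 14, ((coefTbl k i : ℤ) : ℂ) •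
      Cfsg.indFun (indSub F i) (fun s => (indHom F i s : ℂ)) := by
    funext h
    obtain ⟨⟨a, w⟩, rfl⟩ := (elH_bijective F).2 h
    simp only [Finset.sum_apply, Pi.smul_apply, smul_eq_mul, ind_eq, phiH_el, phi]
    rw [← val_table, toC4_sum, Finset.sum_div]
    exact Finset.sum_congr rfl fun i _ => by rw [toC4_smul, mul_div_assoc]
  rw [e]
  refine Induced.Generalized.isGen_sum _ fun i _ => Induced.Generalized.isGen_zsmul ?_ _
  exact Induced.Generalized.of_isCharacter
    (Induced.Character.isCharacter_indFun _ (Induced.Character.isCharacter_hom _))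

theorem phiH_class (F : Frame G H) (k : Fin 10) : Cfsg.IsClassFunction H (phiH F k) := by
  obtain ⟨a, b, ha, hb, e⟩ := phiH_gen F k
  rw [e]
  intro g h
  simp only [Pi.sub_apply,
    Characters.Basic.isClassFunction_of_isCharacter ha g h,
    Characters.Basic.isClassFunction_of_isCharacter hb g h]

theorem phiH_gram (F : Frame G H) [Fintype H] (k l : Fin 10) :
    Cfsg.classInner (phiH F k) (phiH F l) = (Search.gramN k.val l.val : ℂ) := by
  rw [Cfsg.classInner, sum_H F, card_H F]
  simp only [phiH_el, phi_gram]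
  push_cast
  ring

theorem phiH_triv (F : Frame G H) [Fintype H] (k : Fin 10) :
    Cfsg.classInner (phiH F k) 1 = (Search.trivN k.val : ℂ) := by
  rw [Cfsg.classInner, sum_H F, card_H F]
  simp only [phiH_el, Pi.one_apply, map_one, mul_one, phi_triv]
  push_cast
  ring

end Cfsg.Agent.Lib.Fgs9.CubeSix
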